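import Groth.Prelude.Def_W4c5algebraiztannakaNis
import Mathlib.AlgebraicGeometry.Morphisms.FinitePresentation
import Mathlib.AlgebraicGeometry.PullbackCarrier
import Mathlib.AlgebraicGeometry.IdealSheaf.Subscheme
import Mathlib.AlgebraicGeometry.Morphisms.QuasiSeparated
import Mathlib.AlgebraicGeometry.Limits

/-! Nisnevich covers of bounded length of schemes. -/

set_option autoImplicit false
set_option linter.style.haveILetI false

universe u

open CategoryTheory CategoryTheory.Limits AlgebraicGeometry Topology W4c5algebraiztannaka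

namespace Groth.Agent.H24Algz

theorem isCompact_of_isConstructible {X : Scheme.{u}} [CompactSpace X] [QuasiSeparatedSpace X] {s : Set X}
    (hs : IsConstructible s) : IsCompact s := by
  haveI : Nonempty X.affineOpens := ⟨⟨⊥, isAffineOpen_bot X⟩⟩
  have hb : TopologicalSpace.IsTopologicalBasis (Set.range fun U : X.affineOpens => ((U.1 : X.Opens) : Set X)) := by
    have h := X.isBasis_affineOpens
    rw [TopologicalSpace.Opens.IsBasis] at h
    convert! h using 1
    ext t
    simp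
  refine IsConstructible.induction_of_isTopologicalBasis (P := fun s _ => IsCompact s) _ hb
    (fun U => IsAffineOpen.isCompact U.2) (fun U t ht => ?_) (fun _ _ _ _ h1 h2 => h1.union h2) s hs
  have h1 : IsCompact ((U.1 : X.Opens) : Set X) := IsAffineOpen.isCompact U.2
  exact h1.inter_right (isOpen_biUnion fun j _ => j.1.2).isClosed_compl

theorem isConstructible_of_isClosed {X : Scheme.{u}} [CompactSpace X] [QuasiSeparatedSpace X] {s : Set X}
    (hs : IsClosed s) (hc : IsCompact sᶜ) : IsConstructible s :=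
  (hc.isConstructible hs.isOpen_compl).of_compl

theorem isNisCoverLen_pullback_snd {U Y Y' : Scheme.{u}} (f : U ⟶ Y) (g : Y' ⟶ Y)
    [CompactSpace Y] [QuasiSeparatedSpace Y] [CompactSpace Y'] [QuasiSeparatedSpace Y'] (m : ℕ)
    (hf : IsNisCoverLen f m) : IsNisCoverLen (Limits.pullback.snd f g) m := by
  obtain ⟨hetale, Z, hZ0, hZm, hZmono, hZc, hZs⟩ := hf
  haveI := hetale
  refine ⟨inferInstance, fun k => g ⁻¹' Z k, by simp [hZ0], by simp [hZm],
    fun a b h => Set.preimage_mono (hZmono h),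
    fun k => ⟨(hZc k).1.preimage g.continuous, g.isConstructible_preimage (hZc k).2⟩, fun k => ?_⟩
  obtain ⟨T, t, s, ht, hrange, hs⟩ := hZs k
  refine ⟨Limits.pullback t g, Limits.pullback.snd t g,
    pullback.lift (pullback.fst t g ≫ s) (pullback.snd t g) (by rw [Category.assoc, hs, pullback.condition]),
    inferInstance, ?_, pullback.lift_snd _ _ _⟩
  show Set.range (pullback.snd t g) = g ⁻¹' Z k.succ \ g ⁻¹' Z k.castSucc
  rw [Scheme.Pullback.range_snd, hrange, Set.preimage_sdiff]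

theorem isNisCoverLen_sigma_desc_opens {U : Scheme.{u}} [CompactSpace U] [QuasiSeparatedSpace U]
    (k : ℕ) (V : Fin k → U.Opens) (hV : ∀ i, IsCompact (V i : Set U)) (hcov : ⨆ i, V i = ⊤) :
    IsNisCoverLen (Limits.Sigma.desc (fun i => (V i).ι) : (∐ fun i => ((V i : U.Opens) : Scheme.{u})) ⟶ U) k := by
  classical
  let O : Fin (k + 1) → Set U := fun j => ⋃ i ∈ {i : Fin k | (j : ℕ) ≤ i}, (V i : Set U)
  have hOopen : ∀ j, IsOpen (O j) := fun j => isOpen_biUnion fun i _ => (V i).2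
  have hOc : ∀ j, IsCompact (O j) := fun j => (Set.toFinite _).isCompact_biUnion fun i _ => hV i
  have hmem : ∀ x : U, ∃ i, x ∈ V i := fun x =>
    TopologicalSpace.Opens.mem_iSup.mp (show x ∈ ⨆ i, V i from hcov ▸ trivial)
  refine ⟨IsZariskiLocalAtSource.sigmaDesc (fun i => inferInstance), fun j => (O j)ᶜ, ?_, ?_, ?_,
    fun j => ⟨(hOopen j).isClosed_compl, ((hOc j).isConstructible (hOopen j)).compl⟩, fun j => ?_⟩
  · simp only [Set.compl_empty_iff, Set.eq_univ_iff_forall]
    intro x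
    obtain ⟨i, hi⟩ := hmem x
    exact Set.mem_biUnion (show (0 : ℕ) ≤ i from Nat.zero_le _) hi
  · simp only [Set.compl_univ_iff, Set.eq_empty_iff_forall_notMem]
    intro x hx
    obtain ⟨i, hi, -⟩ := Set.mem_iUnion₂.mp hx
    exact absurd hi (by simp)
  · intro a b hab
    exact Set.compl_subset_compl.mpr (Set.biUnion_subset_biUnion_left fun i (hi : (b : ℕ) ≤ i) => le_trans (Fin.le_def.mp hab) hi)
  · have hcl : IsClosed ((V j).ι ⁻¹' (O j.succ)ᶜ) := (hOopen j.succ).isClosed_compl.preimage (V j).ι.continuous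
    let C : TopologicalSpace.Closeds (V j : Scheme.{u}) := ⟨_, hcl⟩
    let ideal := Scheme.IdealSheafData.vanishingIdeal C
    refine ⟨ideal.subscheme, ideal.subschemeι ≫ (V j).ι,
      ideal.subschemeι ≫ Sigma.ι (fun i => ((V i : U.Opens) : Scheme.{u})) j, inferInstance, ?_, ?_⟩
    · have h1 : Set.range (fun t => (ideal.subschemeι ≫ (V j).ι) t) = (V j).ι '' Set.range ideal.subschemeι := by
        rw [← Set.range_comp]; rfl
      rw [h1, Scheme.IdealSheafData.range_subschemeι, Scheme.IdealSheafData.coe_support_vanishingIdeal]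
      show (V j).ι '' ((V j).ι ⁻¹' (O j.succ)ᶜ) = _
      rw [Set.image_preimage_eq_inter_range, Scheme.Opens.range_ι]
      ext x
      simp only [O, Set.mem_inter_iff, Set.mem_compl_iff, Set.mem_iUnion, Set.mem_setOf_eq, Set.mem_sdiff,
        not_exists, not_not, SetLike.mem_coe, Fin.val_succ, Fin.val_castSucc, exists_prop, not_and]
      push Not
      constructor
      · rintro ⟨h1, h2⟩
        exact ⟨h1, j, le_rfl, h2⟩
      · rintro ⟨h1, i, hi, hxi⟩
        refine ⟨h1, ?_⟩
        rcases (Nat.lt_or_eq_of_le hi) with h | h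
        · exact absurd hxi (h1 i h)
        · rwa [show j = i from Fin.ext h]
    · rw [Category.assoc, Sigma.ι_desc]

theorem isNisCoverLen_comp_mul {Y₁ Y₂ Y₃ : Scheme.{u}} (g₁ : Y₁ ⟶ Y₂) (g₂ : Y₂ ⟶ Y₃)
    [CompactSpace Y₂] [QuasiSeparatedSpace Y₂] [CompactSpace Y₃] [QuasiSeparatedSpace Y₃] (m₁ m₂ : ℕ)
    (h₁ : IsNisCoverLen g₁ m₁) (h₂ : IsNisCoverLen g₂ m₂) : IsNisCoverLen (g₁ ≫ g₂) (m₁ * m₂) := by
  classical
  obtain ⟨he₁, Z, hZ0, hZm, hZmono, hZc, hZs⟩ := h₁
  obtain ⟨he₂, W, hW0, hWm, hWmono, hWc, hWs⟩ := h₂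
  haveI := he₁
  haveI := he₂
  choose T t s ht hrange hs using hWs
  haveI := ht
  have hcompT : ∀ k, CompactSpace (T k) := fun k => by
    have h1 : IsCompact (Set.range (t k)) := by
      rw [hrange k]
      exact isCompact_of_isConstructible ((hWc k.succ).2.sdiff (hWc k.castSucc).2)
    exact ⟨((t k).isEmbedding.isCompact_iff).mpr (by rwa [Set.image_univ])⟩
  haveI : ∀ k, QuasiCompact (s k) := fun k => by
    haveI := hcompT k
    exact inferInstance
  let P : Fin m₂ → Fin (m₁ + 1) → Set Y₃ := fun k j => W k.castSucc ∪ (t k) '' ((s k) ⁻¹' Z j)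
  have hPsub : ∀ k j, P k j ⊆ W k.succ := fun k j =>
    Set.union_subset (hWmono (Fin.castSucc_le_succ k)) ((Set.image_subset_range _ _).trans (hrange k ▸ Set.sdiff_subset))
  have hPc : ∀ k j, (P k j)ᶜ = (W k.succ)ᶜ ∪ (t k) '' ((s k) ⁻¹' (Z j)ᶜ) := by
    intro k j
    ext y
    simp only [P, Set.mem_compl_iff, Set.mem_union, not_or]
    constructor
    · rintro ⟨h1, h2⟩
      by_cases hy : y ∈ W k.succ
      · obtain ⟨x, hx⟩ : y ∈ Set.range (t k) := hrange k ▸ ⟨hy, h1⟩
        exact Or.inr ⟨x, fun h => h2 ⟨x, h, hx⟩, hx⟩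
      · exact Or.inl hy
    · rintro (hy | ⟨x, hx, rfl⟩)
      · exact ⟨fun h => hy (hWmono (Fin.castSucc_le_succ k) h), fun h => hy (hrange k ▸ Set.image_subset_range _ _ h).1⟩
      · refine ⟨fun h => ((hrange k).le ⟨x, rfl⟩).2 h, ?_⟩
        rintro ⟨x', hx', he⟩
        exact hx ((t k).isEmbedding.injective he ▸ hx')
  have hPclosed : ∀ k j, IsClosed (P k j) := by
    intro k j
    obtain ⟨F, hF, hFs⟩ : ∃ F, IsClosed F ∧ (t k) ⁻¹' F = (s k) ⁻¹' Z j :=
      (t k).isEmbedding.isInducing.isClosed_iff.mp ((hZc j).1.preimage (s k).continuous)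
    have e : P k j = W k.castSucc ∪ F ∩ W k.succ := by
      show W k.castSucc ∪ (t k) '' ((s k) ⁻¹' Z j) = _
      rw [← hFs, Set.image_preimage_eq_inter_range]
      ext y
      have hr : y ∈ Set.range (t k) ↔ y ∈ W k.succ ∧ y ∉ W k.castSucc := Set.ext_iff.mp (hrange k) y
      simp only [Set.mem_union, Set.mem_inter_iff, hr]
      tauto
    rw [e]
    exact (hWc _).1.union (hF.inter (hWc _).1)
  have hPcons : ∀ k j, IsConstructible (P k j) := fun k j => by
    refine isConstructible_of_isClosed (hPclosed k j) ?_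
    rw [hPc]
    refine (isCompact_of_isConstructible (hWc _).2.compl).union (IsCompact.image ?_ (t k).continuous)
    exact QuasiCompact.isCompact_preimage (f := s k) _ (hZc j).1.isOpen_compl (isCompact_of_isConstructible (hZc j).2.compl)
  rcases Nat.eq_zero_or_pos (m₁ * m₂) with h0 | hpos
  · refine ⟨inferInstance, fun _ => ∅, rfl, ?_, monotone_const, fun _ => ⟨isClosed_empty, .empty⟩, fun k => absurd k.2 (by omega)⟩
    show ∅ = Set.univ
    rcases Nat.mul_eq_zero.mp h0 with h | h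
    · subst h
      haveI : IsEmpty Y₂ := Set.univ_eq_empty_iff.mp (by rw [← hZm, ← hZ0]; rfl)
      refine (Set.univ_eq_empty_iff.mpr ⟨fun y => ?_⟩).symm
      have : ∀ k : Fin (m₂ + 1), y ∉ W k := by
        intro k
        induction k using Fin.induction with
        | zero => simp [hW0]
        | succ k ih =>
          intro hy
          obtain ⟨x, -⟩ := (hrange k).ge ⟨hy, ih⟩
          exact IsEmpty.false (s k x)
      exact this (Fin.last _) (hWm ▸ trivial)
    · subst h
      rw [← hWm, ← hW0]; rfl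
  have hm₁ : 0 < m₁ := Nat.pos_of_mul_pos_right hpos
  let A : Fin (m₁ * m₂ + 1) → Set Y₃ := fun n =>
    if h : (n : ℕ) / m₁ < m₂ then P ⟨(n : ℕ) / m₁, h⟩ ⟨(n : ℕ) % m₁, Nat.lt_succ_of_lt (Nat.mod_lt _ hm₁)⟩
    else Set.univ
  have hP0 : ∀ k, P k 0 = W k.castSucc := fun k => by simp [P, hZ0]
  have hPlast : ∀ k, P k (Fin.last _) = W k.succ := fun k => by
    simp [P, hZm, hrange k, Set.union_sdiff_cancel (hWmono (Fin.castSucc_le_succ k))]
  have hstep : ∀ (n : Fin (m₁ * m₂)) (h : (n : ℕ) / m₁ < m₂),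
      A n.succ = P ⟨(n : ℕ) / m₁, h⟩ ⟨(n : ℕ) % m₁ + 1, Nat.succ_lt_succ (Nat.mod_lt _ hm₁)⟩ := by
    intro n h
    have hdm := Nat.div_add_mod (n : ℕ) m₁
    have hmod := Nat.mod_lt (n : ℕ) hm₁
    by_cases hlast : (n : ℕ) % m₁ + 1 = m₁
    · have e1 : ((n : ℕ) + 1) / m₁ = (n : ℕ) / m₁ + 1 := by
        apply Nat.div_eq_of_lt_le <;> nlinarith
      have e2 : ((n : ℕ) + 1) % m₁ = 0 := by
        have := Nat.div_add_mod ((n : ℕ) + 1) m₁
        rw [e1] at this
        nlinarith
      have e3 : P ⟨(n : ℕ) / m₁, h⟩ ⟨(n : ℕ) % m₁ + 1, Nat.succ_lt_succ hmod⟩ = W (Fin.succ ⟨(n : ℕ) / m₁, h⟩) := by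
        rw [← hPlast]; congr 1; exact Fin.ext hlast
      rw [e3]
      simp only [A, Fin.val_succ, e1, e2]
      split_ifs with h'
      · rw [show (⟨0, _⟩ : Fin (m₁ + 1)) = 0 from rfl, hP0]; rfl
      · rw [← hWm]; congr 1; exact Fin.ext (by simp; omega)
    · have e1 : ((n : ℕ) + 1) / m₁ = (n : ℕ) / m₁ := by
        apply Nat.div_eq_of_lt_le
        · rw [Nat.mul_comm ((n : ℕ) / m₁)]; omega
        · have : (n : ℕ) % m₁ + 1 < m₁ := lt_of_le_of_ne hmod hlast
          rw [Nat.add_mul, one_mul, Nat.mul_comm ((n : ℕ) / m₁)]; omega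
      have e2 : ((n : ℕ) + 1) % m₁ = (n : ℕ) % m₁ + 1 := by
        have := Nat.div_add_mod ((n : ℕ) + 1) m₁
        rw [e1] at this
        omega
      simp only [A, Fin.val_succ, e1, e2]
      rw [dif_pos h]
  have hlt : ∀ n : Fin (m₁ * m₂), (n : ℕ) / m₁ < m₂ := fun n => Nat.div_lt_of_lt_mul n.2
  refine ⟨inferInstance, A, ?_, ?_, ?_, ?_, fun n => ?_⟩
  · simp only [A, Fin.val_zero, Nat.zero_div, Nat.zero_mod]
    rw [dif_pos (Nat.pos_of_mul_pos_left hpos), show (⟨0, _⟩ : Fin (m₁ + 1)) = 0 from rfl, hP0]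
    exact hW0
  · simp only [A, Fin.val_last, Nat.mul_div_cancel_left _ hm₁]
    rw [dif_neg (lt_irrefl _)]
  · refine Fin.monotone_iff_le_succ.mpr fun n => ?_
    rw [hstep n (hlt n)]
    simp only [A, Fin.val_castSucc]
    rw [dif_pos (hlt n)]
    exact Set.union_subset_union_right _ (Set.image_mono (Set.preimage_mono (hZmono (Fin.le_def.mpr (Nat.le_succ _)))))
  · intro n
    simp only [A]
    split_ifs with h
    · exact ⟨hPclosed _ _, hPcons _ _⟩
    · exact ⟨isClosed_univ, .univ⟩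
  · let k : Fin m₂ := ⟨(n : ℕ) / m₁, hlt n⟩
    let j : Fin m₁ := ⟨(n : ℕ) % m₁, Nat.mod_lt _ hm₁⟩
    obtain ⟨S, a, b, ha, harange, hab⟩ := hZs j
    haveI := ha
    refine ⟨Limits.pullback a (s k), Limits.pullback.snd a (s k) ≫ t k, Limits.pullback.fst a (s k) ≫ b,
      inferInstance, ?_, ?_⟩
    · have h1 : Set.range (fun x => (Limits.pullback.snd a (s k) ≫ t k) x) = (t k) '' Set.range (Limits.pullback.snd a (s k)) := by
        rw [← Set.range_comp]; rfl
      have hA : A n.castSucc = P k j.castSucc := by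
        simp only [A, Fin.val_castSucc]; rw [dif_pos (hlt n)]; rfl
      rw [h1, Scheme.Pullback.range_snd, harange, hstep n (hlt n), hA]
      show (t k) '' ((s k) ⁻¹' (Z j.succ \ Z j.castSucc)) =
        (W k.castSucc ∪ (t k) '' ((s k) ⁻¹' Z j.succ)) \ (W k.castSucc ∪ (t k) '' ((s k) ⁻¹' Z j.castSucc))
      rw [Set.preimage_sdiff, Set.image_sdiff (t k).isEmbedding.injective]
      ext y
      have hy : y ∈ (t k) '' ((s k) ⁻¹' Z j.succ) → y ∉ W k.castSucc := fun h =>
        ((hrange k).le (Set.image_subset_range _ _ h)).2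
      simp only [Set.mem_sdiff, Set.mem_union]
      tauto
    · simp only [Category.assoc]
      rw [reassoc_of% hab, ← Category.assoc (pullback.fst a (s k)), pullback.condition, Category.assoc, hs k]

end Groth.Agent.H24Algz
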