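import Groth.Agent.H24Algz.DeltaZ
import Groth.Prelude.Def_Found
import Mathlib.RingTheory.KrullDimension.NonZeroDivisors
import Mathlib.RingTheory.Spectrum.Prime.Topology
import Mathlib.AlgebraicGeometry.Stalk

/-! The distance function against dimension functions and Krull dimensions. -/

set_option autoImplicit false
set_option linter.style.haveILetI false

universe u

open AlgebraicGeometry TopologicalSpace Topology Order

namespace Groth.Agent.H24Algz

section Top

variable {Y : Type u} [TopologicalSpace Y] [T0Space Y] (δ : Y → ℤ)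
  (hδ : ∀ x y : Y, x ⤳ y → x ≠ y → δ y < δ x ∧ ((∀ z : Y, x ⤳ z → z ⤳ y → z = x ∨ z = y) → δ x = δ y + 1))

include hδ in
theorem lt_of_lt (a b : Specialization Y) (h : a < b) : δ (Specialization.ofEquiv a) < δ (Specialization.ofEquiv b) :=
  (hδ _ _ h.le (fun e => h.ne e.symm)).1

include hδ in
theorem exists_series (w v : Y) (h : w ⤳ v) : ∃ s : LTSeries (Specialization Y),
    s.head = Specialization.toEquiv v ∧ s.last = Specialization.toEquiv w ∧ (s.length : ℤ) = δ w - δ v := by
  induction hd : (δ w - δ v).toNat using Nat.strong_induction_on generalizing w v with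
  | _ d ih =>
    rcases eq_or_ne w v with rfl | hne
    · exact ⟨RelSeries.singleton _ _, rfl, rfl, by simp⟩
    obtain ⟨hlt, himm⟩ := hδ w v h hne
    by_cases hi : ∀ z : Y, w ⤳ z → z ⤳ v → z = w ∨ z = v
    · have hlt' : Specialization.toEquiv v < Specialization.toEquiv w :=
        lt_of_le_not_ge h fun h' => hne (h.antisymm h').eq
      refine ⟨(RelSeries.singleton _ (Specialization.toEquiv w)).cons (Specialization.toEquiv v) hlt',
        by simp, by simp, ?_⟩
      rw [himm hi]
      simp
    push Not at hi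
    obtain ⟨z, h1, h2, hz1, hz2⟩ := hi
    obtain ⟨l1, -⟩ := hδ w z h1 (Ne.symm hz1)
    obtain ⟨l2, -⟩ := hδ z v h2 hz2
    obtain ⟨s, hs1, hs2, hs3⟩ := ih _ (by omega) z v h2 rfl
    obtain ⟨t, ht1, ht2, ht3⟩ := ih _ (by omega) w z h1 rfl
    refine ⟨s.smash t (hs2.trans ht1.symm), by simpa using hs1, by simpa using ht2, ?_⟩
    show ((s.length + t.length : ℕ) : ℤ) = _
    push_cast
    linarith

include hδ in
theorem length_le_sub (s : LTSeries (Specialization Y)) :
    (s.length : ℤ) ≤ δ (Specialization.ofEquiv s.last) - δ (Specialization.ofEquiv s.head) := by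
  have key : ∀ (i : ℕ) (hi : i < s.length + 1),
      δ (Specialization.ofEquiv s.head) + (i : ℤ) ≤ δ (Specialization.ofEquiv (s ⟨i, hi⟩)) := by
    intro i
    induction i with
    | zero => intro hi; simp [RelSeries.head]
    | succ i ih =>
      intro hi
      have h1 := ih (by omega)
      have h2 := lt_of_lt δ hδ _ _ (s.strictMono (show (⟨i, by omega⟩ : Fin (s.length + 1)) < ⟨i + 1, hi⟩ by
        rw [Fin.lt_def]; exact Nat.lt_succ_self i))
      push_cast
      omega
  have h3 : δ (Specialization.ofEquiv s.head) + (s.length : ℤ) ≤ δ (Specialization.ofEquiv s.last) :=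
    key s.length (Nat.lt_succ_self _)
  omega

include hδ in
theorem codimPt_eq (w v : Y) (h : w ⤳ v) : Algz.codimPt w v h = ((δ w - δ v).toNat : ℕ∞) := by
  refine le_antisymm (codimPt_le h fun s hh hl => ?_) ?_
  · have h1 := length_le_sub δ hδ s
    have h2 : δ v ≤ δ (Specialization.ofEquiv s.head) := by
      rcases eq_or_ne (Specialization.ofEquiv s.head) v with e | e
      · rw [e]
      · exact (hδ _ _ hh e).1.le
    rw [hl, Specialization.ofEquiv_toEquiv] at h1
    exact Nat.cast_le.mpr (by omega)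
  · obtain ⟨s, h1, h2, h3⟩ := exists_series δ hδ w v h
    refine le_trans (le_of_eq ?_) (le_codimPt h s h1.ge h2)
    rw [← h3]
    simp

include hδ in
theorem sub_nonneg_of_specializes (w v : Y) (h : w ⤳ v) : 0 ≤ δ w - δ v := by
  rcases eq_or_ne w v with rfl | e
  · simp
  · have := (hδ _ _ h e).1; omega

include hδ in
theorem exists_mem_le_add {Z : Set Y} {y : Y} {n : ℕ} (hn : Algz.deltaZ Z y = n) : ∃ z ∈ Z, δ y ≤ n + δ z := by
  classical
  obtain ⟨k, S, hS⟩ := exists_delta_eq hn
  refine ⟨S.v 0, S.start_mem, ?_⟩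
  let C : ℕ := ∑ j : Fin (k + 1), (δ (S.w j) - δ (S.v j)).toNat
  let B : ℕ := ∑ j : Fin k, (δ (S.w j.castSucc) - δ (S.v j.succ)).toNat
  have h1 : (k : ℕ∞) + ((C : ℕ∞) - (B : ℕ∞)) ≤ n := by
    rw [← hS]
    refine add_le_add le_rfl (le_trans (le_of_eq ?_) (Finset.le_sup (Finset.mem_univ (0 : Fin (k + 1)))))
    simp [C, B, Algz.DSystem.c, Algz.DSystem.b, codimPt_eq δ hδ]
  rw [← ENat.coe_sub, ← Nat.cast_add, Nat.cast_le] at h1
  have hC : (C : ℤ) = ∑ j : Fin (k + 1), (δ (S.w j) - δ (S.v j)) := by
    simp only [C, Nat.cast_sum]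
    exact Finset.sum_congr rfl fun j _ => Int.toNat_of_nonneg (sub_nonneg_of_specializes δ hδ _ _ (S.spec j))
  have hB : (B : ℤ) = ∑ j : Fin k, (δ (S.w j.castSucc) - δ (S.v j.succ)) := by
    simp only [B, Nat.cast_sum]
    exact Finset.sum_congr rfl fun j _ => Int.toNat_of_nonneg (sub_nonneg_of_specializes δ hδ _ _ (S.spec_succ j))
  rw [Finset.sum_sub_distrib, Fin.sum_univ_castSucc, Fin.sum_univ_succ (fun j => δ (S.v j)), S.last_eq] at hC
  rw [Finset.sum_sub_distrib] at hB
  omega

/-- The distance is at most the dimension of a local ring seeing the generalisations of `z`. -/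
theorem deltaZ_le_ringKrullDim {R : Type u} [CommRing R] (g : PrimeSpectrum R → Y) (hg : IsEmbedding g)
    {Z : Set Y} {z : Y} (hz : z ∈ Z) (hrange : ∀ x : Y, x ⤳ z → x ∈ Set.range g) (P : PrimeSpectrum R)
    (h : g P ⤳ z) : ((Algz.deltaZ Z (g P) : ℕ∞) : WithBot ℕ∞) ≤ ringKrullDim (R ⧸ P.asIdeal) := by
  rw [ringKrullDim_quotient]
  haveI : Nonempty (PrimeSpectrum.zeroLocus (R := R) (P.asIdeal : Set R)) := ⟨⟨P, le_refl P.asIdeal⟩⟩
  rw [Order.krullDim_eq_iSup_coheight_of_nonempty]
  refine WithBot.coe_le_coe.mpr ((deltaZ_le_codimPt h hz).trans (codimPt_le h fun s hh hl => ?_))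
  have hmem : ∀ i, ∃ q, g q = Specialization.ofEquiv (s i) := fun i =>
    hrange _ (show Specialization.toEquiv z ≤ s i from le_trans hh (s.monotone (Fin.zero_le i)))
  choose q hq using hmem
  have hle : ∀ i j, Specialization.toEquiv (g (q i)) ≤ Specialization.toEquiv (g (q j)) ↔ q j ≤ q i := by
    intro i j
    rw [PrimeSpectrum.le_iff_specializes, Specialization.toEquiv_le_toEquiv, hg.isInducing.specializes_iff]
  have hP : ∀ i, (P.asIdeal : Set R) ⊆ (q i).asIdeal := fun i => by
    have : Specialization.toEquiv (g (q i)) ≤ Specialization.toEquiv (g P) := by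
      rw [hq]; exact le_of_le_of_eq (s.monotone (Fin.le_last i)) hl
    rw [Specialization.toEquiv_le_toEquiv, hg.isInducing.specializes_iff, ← PrimeSpectrum.le_iff_specializes] at this
    exact this
  let t : LTSeries (PrimeSpectrum.zeroLocus (R := R) (P.asIdeal : Set R)) :=
    LTSeries.mk s.length (fun i => ⟨q i.rev, hP i.rev⟩) fun i j hij => by
      have h1 := s.strictMono (Fin.rev_lt_rev.mpr hij)
      rw [← Specialization.toEquiv_ofEquiv (s j.rev), ← hq, ← Specialization.toEquiv_ofEquiv (s i.rev), ← hq] at h1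
      exact Subtype.mk_lt_mk.mpr (lt_of_le_not_ge ((hle _ _).mp h1.le) fun h2 => not_le_of_gt h1 ((hle _ _).mpr h2))
  exact le_trans (Order.length_le_coheight_head (p := t)) (le_iSup (fun a => Order.coheight a) t.head)

end Top

section Catenary

variable {A : Type u} [CommRing A]

theorem covBy_of_length_eq (s : LTSeries (PrimeSpectrum A)) (hs : (s.length : ℕ∞) = Order.coheight s.head) :
    ∀ i : Fin s.length, s (Fin.castSucc i) ⋖ s (Fin.succ i) := by
  intro i
  refine ⟨s.step i, fun c h1 h2 => ?_⟩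
  have h := Order.length_le_coheight (p := s.insertNth i c h1 h2) (x := s.head) ?_
  · rw [← hs] at h
    have h' : s.length + 1 ≤ s.length := by exact_mod_cast h
    omega
  · apply le_of_eq
    show s.head = Fin.insertNth (α := fun _ => PrimeSpectrum A) i.succ.castSucc c s.toFun 0
    rw [Fin.insertNth_apply_below (Fin.castSucc_pos_iff.mpr (Fin.succ_pos i))]
    simp [RelSeries.head]

theorem isDimFun_coheight [IsNoetherianRing A] [IsLocalRing A] (hA : CAlg.IsCatenary A)
    (hfin : ∀ p : PrimeSpectrum A, Order.coheight p < ⊤) (x y : PrimeSpectrum A) (h : x ⤳ y) (hne : x ≠ y) :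
    ((Order.coheight y).toNat : ℤ) < (Order.coheight x).toNat ∧
      ((∀ z, x ⤳ z → z ⤳ y → z = x ∨ z = y) → ((Order.coheight x).toNat : ℤ) = (Order.coheight y).toNat + 1) := by
  have hlt : x < y := lt_of_le_of_ne ((PrimeSpectrum.le_iff_specializes x y).mpr h) hne
  obtain ⟨a, ha⟩ := ENat.ne_top_iff_exists.mp (hfin x).ne
  obtain ⟨b, hb⟩ := ENat.ne_top_iff_exists.mp (hfin y).ne
  obtain ⟨t, ht, htl⟩ := Order.exists_series_of_coheight_eq_coe y hb.symm
  let u : LTSeries (PrimeSpectrum A) := LTSeries.mk (t.length + 1) (Fin.cons x t.toFun) (by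
    refine Fin.strictMono_iff_lt_succ.mpr (Fin.cases ?_ fun k => ?_)
    · show x < t.toFun 0
      exact lt_of_lt_of_eq hlt ht.symm
    · rw [← Fin.succ_castSucc, Fin.cons_succ, Fin.cons_succ]
      exact t.step k)
  have hu0 : u.head = x := rfl
  have hab : b + 1 ≤ a := by
    have := Order.length_le_coheight (p := u) (x := x) hu0.ge
    rw [← ha] at this
    have h' : t.length + 1 ≤ a := ENat.coe_le_coe.mp this
    omega
  rw [← ha, ← hb]
  refine ⟨by simp only [ENat.toNat_natCast]; omega, fun hi => ?_⟩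
  obtain ⟨s, hs, hsl⟩ := Order.exists_series_of_coheight_eq_coe x ha.symm
  have hlast : ∀ (r : LTSeries (PrimeSpectrum A)), (r.length : ℕ∞) = Order.coheight r.head →
      r.last = IsLocalRing.closedPoint A := by
    intro r hr
    by_contra hc
    have hle : r.last ≤ IsLocalRing.closedPoint A := IsLocalRing.le_maximalIdeal r.last.2.ne_top
    have := Order.length_le_coheight (p := r.snoc _ (lt_of_le_of_ne hle hc)) (x := r.head) (by simp)
    rw [← hr] at this
    have h' : r.length + 1 ≤ r.length := ENat.coe_le_coe.mp this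
    omega
  have hs' : (s.length : ℕ∞) = Order.coheight s.head := by rw [hs, ← ha, hsl]
  have ht' : (t.length : ℕ∞) = Order.coheight t.head := by rw [ht, ← hb, htl]
  have hulast : u.last = t.last := Fin.cons_succ (α := fun _ => PrimeSpectrum A) x t.toFun (Fin.last _)
  have hcov : ∀ i : Fin u.length, u (Fin.castSucc i) ⋖ u (Fin.succ i) := by
    intro i
    refine Fin.cases ?_ (fun k => ?_) i
    · show x ⋖ t.toFun 0
      rw [show t.toFun 0 = y from ht]
      refine ⟨hlt, fun c h1 h2 => ?_⟩
      rcases hi c ((PrimeSpectrum.le_iff_specializes _ _).mp h1.le) ((PrimeSpectrum.le_iff_specializes _ _).mp h2.le) with e | e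
      · exact h1.ne' e
      · exact h2.ne e
    · show Fin.cons (α := fun _ => PrimeSpectrum A) x t.toFun k.succ.castSucc ⋖
        Fin.cons (α := fun _ => PrimeSpectrum A) x t.toFun k.succ.succ
      rw [← Fin.succ_castSucc, Fin.cons_succ, Fin.cons_succ]
      exact covBy_of_length_eq t ht' k
  have h' : s.length = u.length :=
    hA.2 s u (hs.trans hu0.symm) ((hlast s hs').trans ((hulast.trans (hlast t ht')).symm))
      (covBy_of_length_eq s hs') hcov
  have h'' : u.length = t.length + 1 := rfl
  simp only [ENat.toNat_natCast]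
  omega

end Catenary

end Groth.Agent.H24Algz
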