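import Groth.Agent.H24Algz.Approximation
import Groth.Agent.S16453
import Mathlib.RingTheory.HopkinsLevitzki

/-!
# Algebraization of versal formal elements
-/

set_option autoImplicit false
set_option linter.style.haveILetI false

universe u

open CategoryTheory CategoryTheory.Limits IsLocalRing

namespace Groth.Agent.H24Algz

section quotient

variable {A : Type u} [CommRing A] (m : Ideal A) [m.IsMaximal] (n : ℕ)

theorem isLocalRing_quotient_pow : IsLocalRing (A ⧸ m ^ (n + 1)) := by
  refine IsLocalRing.of_unique_max_ideal ⟨m.map (Ideal.Quotient.mk (m ^ (n + 1))), ?_, fun M hM => ?_⟩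
  · refine (Ideal.map_eq_top_or_isMaximal_of_surjective _ Ideal.Quotient.mk_surjective ‹_›).resolve_left fun h => ?_
    have := congrArg (Ideal.comap (Ideal.Quotient.mk (m ^ (n + 1)))) h
    rw [Ideal.comap_map_of_surjective _ Ideal.Quotient.mk_surjective, Ideal.comap_top, ← RingHom.ker_eq_comap_bot,
      Ideal.mk_ker, sup_of_le_left (Ideal.pow_le_self n.succ_ne_zero)] at this
    exact (‹m.IsMaximal›).ne_top this
  · haveI := hM
    have h1 : m ^ (n + 1) ≤ M.comap (Ideal.Quotient.mk (m ^ (n + 1))) := fun x hx => by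
      rw [Ideal.mem_comap, Ideal.Quotient.eq_zero_iff_mem.2 hx]
      exact zero_mem _
    haveI hp : (M.comap (Ideal.Quotient.mk (m ^ (n + 1)))).IsMaximal :=
      Ideal.comap_isMaximal_of_surjective _ Ideal.Quotient.mk_surjective
    have h2 : m = M.comap (Ideal.Quotient.mk (m ^ (n + 1))) :=
      (‹m.IsMaximal›).eq_of_le hp.ne_top (hp.isPrime.le_of_pow_le h1)
    refine (congrArg (Ideal.map (Ideal.Quotient.mk (m ^ (n + 1)))) h2).trans ?_ |>.symm
    exact Ideal.map_comap_of_surjective _ Ideal.Quotient.mk_surjective M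

theorem isArtinianRing_quotient_pow [IsNoetherianRing A] : IsArtinianRing (A ⧸ m ^ (n + 1)) := by
  haveI := isLocalRing_quotient_pow m n
  rw [isArtinianRing_iff_isNilpotent_maximalIdeal]
  refine ⟨n + 1, eq_bot_iff.2 ?_⟩
  refine (Ideal.pow_right_mono (I := maximalIdeal (A ⧸ m ^ (n + 1)))
    (J := m.map (Ideal.Quotient.mk (m ^ (n + 1)))) (fun x hx => ?_) (n + 1)).trans ?_
  · obtain ⟨a, rfl⟩ := Ideal.Quotient.mk_surjective x
    refine Ideal.mem_map_of_mem _ ?_
    by_contra ha
    refine hx ?_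
    obtain ⟨b, i, hi, hb⟩ := (‹m.IsMaximal›).exists_inv ha
    have hnil : IsNilpotent (Ideal.Quotient.mk (m ^ (n + 1)) i) :=
      ⟨n + 1, by rw [← map_pow, Ideal.Quotient.eq_zero_iff_mem]; exact Ideal.pow_mem_pow hi _⟩
    have h : Ideal.Quotient.mk (m ^ (n + 1)) b * Ideal.Quotient.mk _ a = 1 - Ideal.Quotient.mk _ i := by
      rw [← map_mul, ← map_one (Ideal.Quotient.mk (m ^ (n + 1))), ← map_sub, ← hb, add_sub_cancel_right]
    exact isUnit_of_mul_isUnit_right (h ▸ hnil.isUnit_one_sub)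
  · rw [← Ideal.map_pow, Ideal.map_quotient_self]

theorem residue_quotient_pow_surjective {k : Type u} [Field k] [Algebra k A]
    (hk : Function.Surjective (fun c : k => Ideal.Quotient.mk m (algebraMap k A c))) :
    haveI := isLocalRing_quotient_pow m n
    Function.Surjective (fun c : k => residue (A ⧸ m ^ (n + 1)) (algebraMap k (A ⧸ m ^ (n + 1)) c)) := by
  haveI := isLocalRing_quotient_pow m n
  intro x
  obtain ⟨x, rfl⟩ := residue_surjective x
  obtain ⟨a, rfl⟩ := Ideal.Quotient.mk_surjective x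
  obtain ⟨c, hc⟩ := hk (Ideal.Quotient.mk m a)
  refine ⟨c, ?_⟩
  refine (Ideal.Quotient.eq).2 ?_
  rw [mem_maximalIdeal, mem_nonunits_iff]
  intro hu
  have h := hu.map (Ideal.Quotient.factor (Ideal.pow_le_self (I := m) n.succ_ne_zero))
  rw [map_sub] at h
  have hz : Ideal.Quotient.mk m (algebraMap k A c) - Ideal.Quotient.mk m a = 0 := sub_eq_zero.2 hc
  haveI : Nontrivial (A ⧸ m) := Ideal.Quotient.nontrivial_iff.mpr (‹m.IsMaximal›).ne_top
  exact not_isUnit_zero (hz ▸ h)

end quotient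

variable {k : Type u} [Field k] {R : Type u} [CommRing R] [Algebra k R] [IsLocalRing R] [IsNoetherianRing R]
  {A : Type u} [CommRing A] [Algebra k A] {m : Ideal A}

/-- A compatible system of surjective maps to the truncations gives an isomorphism with the completion as soon as
the associated graded rings are isomorphic. -/
theorem bijective_liftRingHom [IsAdicComplete (maximalIdeal R) R] (h : ∀ j, R →ₐ[k] A ⧸ m ^ j)
    (hh : ∀ {i j : ℕ} (hle : i ≤ j), (Ideal.Quotient.factorPow m hle).comp (h j).toRingHom = (h i).toRingHom)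
    (hm1 : ∀ x ∈ maximalIdeal R, h 1 x = 0)
    (happrox : ∀ n, ∀ b : A ⧸ m ^ (n + 1), b ∈ (m ^ n).map (Ideal.Quotient.mk (m ^ (n + 1))) →
      ∃ p ∈ maximalIdeal R ^ n, h (n + 1) p = b)
    (e : AssocGr.GrRing (FiltBl.IdealFiltration.adic (maximalIdeal R)) ≃+*
      AssocGr.GrRing (FiltBl.IdealFiltration.adic m)) :
    Function.Bijective (AdicCompletion.liftRingHom m (fun j => (h j).toRingHom) hh) := by
  classical
  let α := AdicCompletion.liftRingHom m (fun j => (h j).toRingHom) hh
  have hev : ∀ n x, AdicCompletion.evalₐ m n (α x) = h n x := fun n x =>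
    AdicCompletion.evalₐ_liftRingHom m (fun j => (h j).toRingHom) hh n x
  have hker : ∀ n, ∀ x ∈ maximalIdeal R ^ n, h n x = 0 := fun n x hx => by
    cases n with
    | zero =>
      haveI : Subsingleton (A ⧸ m ^ 0) :=
        Ideal.Quotient.subsingleton_iff.mpr (by rw [pow_zero, Ideal.one_eq_top])
      exact Subsingleton.elim _ _
    | succ n =>
      have hmap : (maximalIdeal R).map (h (n + 1)).toRingHom ≤ m.map (Ideal.Quotient.mk (m ^ (n + 1))) :=
        Ideal.map_le_iff_le_comap.2 fun y hy => by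
          rw [Ideal.mem_comap]
          obtain ⟨a, ha⟩ := Ideal.Quotient.mk_surjective (h (n + 1) y)
          show h (n + 1) y ∈ _
          rw [← ha]
          refine Ideal.mem_map_of_mem _ ?_
          have h1 := RingHom.congr_fun (hh (show 1 ≤ n + 1 by omega)) y
          rw [RingHom.comp_apply] at h1
          change Ideal.Quotient.factorPow m _ (h (n + 1) y) = h 1 y at h1
          rw [← ha, hm1 y hy] at h1
          rw [← pow_one m]
          exact Ideal.Quotient.eq_zero_iff_mem.1 h1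
      have h2 := Ideal.mem_map_of_mem (h (n + 1)).toRingHom hx
      rw [Ideal.map_pow] at h2
      have h3 := Ideal.pow_right_mono hmap (n + 1) h2
      rw [← Ideal.map_pow, Ideal.map_quotient_self, Ideal.mem_bot] at h3
      exact h3
  have hfilt : AssocGr.IsFiltHom α (FiltBl.IdealFiltration.adic (maximalIdeal R)) (AssocGr.kerFilt m) := fun n x hx => by
    rw [Ideal.mem_comap, AssocGr.mem_kerFilt_iff, hev]
    exact hker n x hx
  have hcomp : ∀ n, ∀ b ∈ (AssocGr.kerFilt m).F n, ∃ a ∈ maximalIdeal R ^ n, α a - b ∈ (AssocGr.kerFilt m).F (n + 1) := by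
    intro n b hb
    obtain ⟨y, hy⟩ := Ideal.Quotient.mk_surjective (AdicCompletion.evalₐ m (n + 1) b)
    have hyn : y ∈ m ^ n := by
      have h1 : b - algebraMap A (AdicCompletion m A) y ∈ (AssocGr.kerFilt m).F n :=
        (AssocGr.kerFilt m).antitone n.le_succ (by
          rw [AssocGr.mem_kerFilt_iff, map_sub, AlgHom.commutes, Ideal.Quotient.algebraMap_eq, hy, sub_self])
      have h2 := sub_mem hb h1
      rw [sub_sub_cancel, AssocGr.mem_kerFilt_iff, AlgHom.commutes, Ideal.Quotient.algebraMap_eq,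
        Ideal.Quotient.eq_zero_iff_mem] at h2
      exact h2
    obtain ⟨p, hp, hpb⟩ := happrox n _ (Ideal.mem_map_of_mem _ hyn)
    refine ⟨p, hp, ?_⟩
    rw [AssocGr.mem_kerFilt_iff, map_sub, hev, hpb, hy, sub_self]
  have hsurj := H24AdicGr.map_surjective hfilt hcomp
  have hb := S16453.result A m
  let θ := RingEquiv.ofBijective _ hb
  let χ : AssocGr.GrRing (FiltBl.IdealFiltration.adic (maximalIdeal R)) →+*
      AssocGr.GrRing (FiltBl.IdealFiltration.adic (maximalIdeal R)) :=
    e.symm.toRingHom.comp (θ.symm.toRingHom.comp (AssocGr.map hfilt))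
  haveI := isNoetherianRing_gr (maximalIdeal R)
  have hχ : Function.Injective χ :=
    injective_of_surjective_ringEnd χ (e.symm.surjective.comp (θ.symm.surjective.comp hsurj))
  have hinj : ∀ n, ∀ a ∈ maximalIdeal R ^ n, α a ∈ (AssocGr.kerFilt m).F (n + 1) →
      a ∈ maximalIdeal R ^ (n + 1) := by
    intro n a ha h1
    have h2 : AssocGr.map hfilt (AssocGr.inDeg (FiltBl.IdealFiltration.adic (maximalIdeal R)) n ⟨a, ha⟩ :
        AssocGr.GrRing _) = 0 := by
      rw [AssocGr.map_inDeg, Submodule.coe_eq_zero, AssocGr.inDeg_eq_zero_iff]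
      exact h1
    have h3 : χ (AssocGr.inDeg (FiltBl.IdealFiltration.adic (maximalIdeal R)) n ⟨a, ha⟩ : AssocGr.GrRing _) = 0 := by
      show e.symm (θ.symm (AssocGr.map hfilt _)) = 0
      rw [h2, map_zero, map_zero]
    have h4 := (map_eq_zero_iff χ hχ).1 h3
    rw [Submodule.coe_eq_zero, AssocGr.inDeg_eq_zero_iff] at h4
    exact h4
  refine ⟨(injective_iff_map_eq_zero α).2 fun a ha => ?_, fun y => ?_⟩
  · refine IsHausdorff.haus (I := maximalIdeal R) inferInstance a fun n => ?_
    rw [SModEq.sub_mem, sub_zero, smul_eq_mul, Ideal.mul_top]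
    induction n with
    | zero => rw [pow_zero, Ideal.one_eq_top]; trivial
    | succ n ih => exact hinj n a ih (by rw [ha]; exact zero_mem _)
  · have hstep : ∀ n r, α r - y ∈ (AssocGr.kerFilt m).F n →
        ∃ d ∈ maximalIdeal R ^ n, α (r + d) - y ∈ (AssocGr.kerFilt m).F (n + 1) := fun n r hr => by
      obtain ⟨d, hd, hd'⟩ := hcomp n _ (neg_mem hr)
      refine ⟨d, hd, ?_⟩
      rw [map_add, show α r + α d - y = α d - -(α r - y) by ring]
      exact hd'
    let s : ℕ → R := fun n => Nat.rec (motive := fun _ => R) 0 (fun i r =>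
      if hr : α r - y ∈ (AssocGr.kerFilt m).F i then r + (hstep i r hr).choose else r) n
    have hs : ∀ n, α (s n) - y ∈ (AssocGr.kerFilt m).F n := by
      intro n
      induction n with
      | zero => rw [(AssocGr.kerFilt m).zero_eq]; trivial
      | succ n ih =>
        rw [show s (n + 1) = s n + (hstep n (s n) ih).choose from dif_pos ih]
        exact (hstep n (s n) ih).choose_spec.2
    have hd : ∀ n, s (n + 1) - s n ∈ maximalIdeal R ^ (n - 0) := fun n => by
      rw [show s (n + 1) = s n + (hstep n (s n) (hs n)).choose from dif_pos (hs n), add_sub_cancel_left, Nat.sub_zero]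
      exact (hstep n (s n) (hs n)).choose_spec.1
    obtain ⟨L, hL⟩ := H24AdicGr.exists_limit (maximalIdeal R) 0 (fun n => s (n + 1) - s n) hd
    refine ⟨L, AdicCompletion.ext_evalₐ fun n => ?_⟩
    have h1 : α (L - s n) ∈ (AssocGr.kerFilt m).F n := by
      refine hfilt n ?_
      have h2 := hL n
      rw [Finset.sum_range_sub s, show s 0 = (0 : R) from rfl, sub_zero] at h2
      exact h2
    have h3 := add_mem h1 (hs n)
    rw [map_sub, sub_add_sub_cancel, AssocGr.mem_kerFilt_iff, map_sub, sub_eq_zero] at h3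
    exact h3

/-- A tower of liftings along the truncations. -/
theorem exists_tower {k : Type u} [Field k] {R : Type u} [CommRing R] [Algebra k R]
    {A : Type u} [CommRing A] [Algebra k A] (m : Ideal A) (q : ℕ) (P : ∀ j : ℕ, (R →ₐ[k] A ⧸ m ^ j) → Prop)
    (hdown : ∀ {i j : ℕ} (hle : i ≤ j) (g : R →ₐ[k] A ⧸ m ^ j), P j g →
      P i ((Ideal.Quotient.factorₐ k (Ideal.pow_le_pow_right hle)).comp g))
    (g₀ : R →ₐ[k] A ⧸ m ^ q) (hg₀ : P q g₀) (hsurj : Function.Surjective g₀)
    (hlift : ∀ (n : ℕ) (g : R →ₐ[k] A ⧸ m ^ n), q ≤ n → P n g → ∃ g' : R →ₐ[k] A ⧸ m ^ (n + 1),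
      P (n + 1) g' ∧ (Ideal.Quotient.factorₐ k (Ideal.pow_le_pow_right n.le_succ)).comp g' = g) :
    ∃ h : ∀ j, R →ₐ[k] A ⧸ m ^ j,
      (∀ {i j : ℕ} (hle : i ≤ j), (Ideal.Quotient.factorPow m hle).comp (h j).toRingHom = (h i).toRingHom) ∧
      (∀ j, P j (h j)) ∧ Function.Surjective (h q) := by
  have hl : ∀ (n : ℕ) (g : {g : R →ₐ[k] A ⧸ m ^ (q + n) // P (q + n) g}),
      ∃ g' : {g : R →ₐ[k] A ⧸ m ^ (q + (n + 1)) // P (q + (n + 1)) g},
        (Ideal.Quotient.factorₐ k (Ideal.pow_le_pow_right (show q + n ≤ q + (n + 1) by omega))).comp g'.1 = g.1 := by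
    intro n g
    obtain ⟨g', h1, h2⟩ := hlift (q + n) g.1 (Nat.le_add_right q n) g.2
    exact ⟨⟨g', h1⟩, h2⟩
  choose L hL using hl
  obtain ⟨G, hG0, hGs⟩ : ∃ G : ∀ n : ℕ, {g : R →ₐ[k] A ⧸ m ^ (q + n) // P (q + n) g},
      (G 0).1 = g₀ ∧ ∀ n, G (n + 1) = L n (G n) :=
    ⟨fun n => Nat.rec (motive := fun n => {g : R →ₐ[k] A ⧸ m ^ (q + n) // P (q + n) g}) ⟨g₀, hg₀⟩ L n,
      rfl, fun n => rfl⟩
  have hGcomp : ∀ (i d : ℕ), ∀ x, Ideal.Quotient.factor
      (Ideal.pow_le_pow_right (I := m) (show q + i ≤ q + (i + d) by omega)) ((G (i + d)).1 x) = (G i).1 x := by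
    intro i d x
    induction d with
    | zero =>
      obtain ⟨a, ha⟩ := Ideal.Quotient.mk_surjective ((G i).1 x)
      show Ideal.Quotient.factor (le_refl (m ^ (q + i))) ((G i).1 x) = (G i).1 x
      rw [← ha, Ideal.Quotient.factor_mk]
    | succ d ih =>
      rw [← ih, ← hL (i + d) (G (i + d)), ← hGs (i + d), AlgHom.comp_apply]
      show _ = Ideal.Quotient.factor (Ideal.pow_le_pow_right (I := m) (show q + i ≤ q + (i + d) by omega))
        (Ideal.Quotient.factor (Ideal.pow_le_pow_right (I := m) (show q + (i + d) ≤ q + (i + d + 1) by omega))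
          ((G (i + d + 1)).1 x))
      rw [Ideal.Quotient.factor_comp_apply]
      rfl
  have hle' : ∀ (i j : ℕ) (h : i ≤ j) (x : R), Ideal.Quotient.factor
      (Ideal.pow_le_pow_right (I := m) (show q + i ≤ q + j by omega)) ((G j).1 x) = (G i).1 x := fun i j h x => by
    obtain ⟨d, rfl⟩ := Nat.exists_eq_add_of_le h
    exact hGcomp i d x
  refine ⟨fun j => (Ideal.Quotient.factorₐ k (Ideal.pow_le_pow_right (show j ≤ q + j by omega))).comp (G j).1,
    @fun i j hle => ?_, fun j => hdown (show j ≤ q + j by omega) _ (G j).2, fun b => ?_⟩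
  · obtain ⟨d, rfl⟩ := Nat.exists_eq_add_of_le hle
    refine RingHom.ext fun x => ?_
    show Ideal.Quotient.factor (Ideal.pow_le_pow_right (I := m) hle)
        (Ideal.Quotient.factor (Ideal.pow_le_pow_right (I := m) (show i + d ≤ q + (i + d) by omega))
          ((G (i + d)).1 x)) =
      Ideal.Quotient.factor (Ideal.pow_le_pow_right (I := m) (show i ≤ q + i by omega)) ((G i).1 x)
    rw [← hGcomp i d x, Ideal.Quotient.factor_comp_apply, Ideal.Quotient.factor_comp_apply]
  · obtain ⟨r, hr⟩ := hsurj b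
    refine ⟨r, ?_⟩
    show Ideal.Quotient.factor (Ideal.pow_le_pow_right (I := m) (show q ≤ q + q by omega)) ((G q).1 r) = b
    rw [← hr, ← hG0]
    exact hle' 0 q (Nat.zero_le q) r

/-- Artin's algebraization theorem. -/
theorem exists_algebraization {k : Type u} [Field k]
    (F : CommAlgCat.{u} k ⥤ Type u)
    (hF : ∀ (J : Type u) [SmallCategory J] [IsFiltered J], PreservesColimitsOfShape J F)
    (R : Type u) [CommRing R] [Algebra k R] [IsLocalRing R] [IsNoetherianRing R]
    [IsAdicComplete (IsLocalRing.maximalIdeal R) R]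
    (hres : Function.Surjective (fun c : k => IsLocalRing.residue R (algebraMap k R c)))
    (ξ : F.obj (CommAlgCat.of k R))
    (hvers : ∀ (B B₀ : Type u) [CommRing B] [Algebra k B] [IsLocalRing B] [IsArtinianRing B]
        [CommRing B₀] [Algebra k B₀] [IsLocalRing B₀] [IsArtinianRing B₀],
        Function.Surjective (fun c : k => IsLocalRing.residue B (algebraMap k B c)) →
        ∀ (π : B →ₐ[k] B₀), Function.Surjective π →
          ∀ (g₀ : R →ₐ[k] B₀) (y : F.obj (CommAlgCat.of k B)),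
            F.map (CommAlgCat.ofHom π) y = F.map (CommAlgCat.ofHom g₀) ξ →
              ∃ g : R →ₐ[k] B, π.comp g = g₀ ∧ F.map (CommAlgCat.ofHom g) ξ = y) :
    ∃ (A : Type u) (_ : CommRing A) (_ : Algebra k A) (_ : Algebra.FiniteType k A)
      (m : Ideal A) (_ : m.IsMaximal)
      (_ : Function.Surjective (fun c : k => Ideal.Quotient.mk m (algebraMap k A c)))
      (η : F.obj (CommAlgCat.of k A))
      (α : R ≃+* AdicCompletion m A),
      (∀ c : k, α (algebraMap k R c) = algebraMap A (AdicCompletion m A) (algebraMap k A c)) ∧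
      ∀ (n : ℕ) (ψ : R →ₐ[k] A ⧸ m ^ (n + 1)),
        ψ.toRingHom = (AdicCompletion.evalₐ m (n + 1) :
            AdicCompletion m A →ₐ[A] A ⧸ m ^ (n + 1)).toRingHom.comp α.toRingHom →
          F.map (CommAlgCat.ofHom ψ) ξ = F.map (CommAlgCat.ofHom (Ideal.Quotient.mkₐ k (m ^ (n + 1)))) η := by
  classical
  obtain ⟨A, _, _, hft, m, hm, hkres, η, φ, hφ, e, -, -⟩ := exists_approximation_with_grIso k F hF R hres ξ 1
  haveI : IsNoetherianRing A := Algebra.FiniteType.isNoetherianRing k A
  haveI : ∀ n : ℕ, IsLocalRing (A ⧸ m ^ (n + 1)) := fun n => isLocalRing_quotient_pow m n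
  haveI : ∀ n : ℕ, IsArtinianRing (A ⧸ m ^ (n + 1)) := fun n => isArtinianRing_quotient_pow m n
  obtain ⟨h, hh, hFh, hh2⟩ := exists_tower m (1 + 1)
    (fun j g => F.map (CommAlgCat.ofHom g) ξ = F.map (CommAlgCat.ofHom (Ideal.Quotient.mkₐ k (m ^ j))) η)
    (fun {i j} hle g hg => by
      have e : (Ideal.Quotient.factorₐ k (Ideal.pow_le_pow_right hle)).comp (Ideal.Quotient.mkₐ k (m ^ j)) =
          Ideal.Quotient.mkₐ k (m ^ i) := AlgHom.ext fun _ => rfl
      rw [CommAlgCat.ofHom_comp, Functor.map_comp_apply, hg, ← Functor.map_comp_apply, ← CommAlgCat.ofHom_comp, e])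
    (φ.toAlgHom.comp (Ideal.Quotient.mkₐ k _)) hφ (φ.surjective.comp Ideal.Quotient.mk_surjective)
    (fun n' g hn hg => by
      obtain ⟨n, rfl⟩ : ∃ n, n' = n + 1 := ⟨n' - 1, by omega⟩
      have e : (Ideal.Quotient.factorₐ k (Ideal.pow_le_pow_right (n + 1).le_succ)).comp
          (Ideal.Quotient.mkₐ k (m ^ (n + 1 + 1))) = Ideal.Quotient.mkₐ k (m ^ (n + 1)) := AlgHom.ext fun _ => rfl
      obtain ⟨g', h1, h2⟩ := hvers (A ⧸ m ^ (n + 1 + 1)) (A ⧸ m ^ (n + 1))
        (residue_quotient_pow_surjective m (n + 1) hkres)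
        (Ideal.Quotient.factorₐ k (Ideal.pow_le_pow_right (n + 1).le_succ))
        (Ideal.Quotient.factor_surjective (Ideal.pow_le_pow_right (n + 1).le_succ)) g
        (F.map (CommAlgCat.ofHom (Ideal.Quotient.mkₐ k (m ^ (n + 1 + 1)))) η) (by
          rw [← Functor.map_comp_apply, ← CommAlgCat.ofHom_comp, e, hg])
      exact ⟨g', h2, h1⟩)
  have hm1 : ∀ x ∈ maximalIdeal R, h 1 x = 0 := by
    intro x hx
    obtain ⟨a, ha⟩ := Ideal.Quotient.mk_surjective (h 1 x)
    obtain ⟨c, hc⟩ := hkres (Ideal.Quotient.mk m a)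
    have hxc : h 1 (x - algebraMap k R c) = 0 := by
      rw [map_sub, AlgHom.commutes, ← ha]
      show Ideal.Quotient.mk (m ^ 1) a - Ideal.Quotient.mk (m ^ 1) (algebraMap k A c) = 0
      rw [← map_sub, Ideal.Quotient.eq_zero_iff_mem, pow_one, ← neg_sub]
      exact neg_mem ((Ideal.Quotient.eq).1 hc)
    haveI : Nontrivial (A ⧸ m ^ 1) := Ideal.Quotient.nontrivial_iff.mpr (by rw [pow_one]; exact hm.ne_top)
    have hnu : x - algebraMap k R c ∈ maximalIdeal R := by
      rw [mem_maximalIdeal, mem_nonunits_iff]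
      exact fun hu => not_isUnit_zero (hxc ▸ hu.map (h 1))
    have hc0 : c = 0 := by
      by_contra hc0
      have h1 : algebraMap k R c ∈ maximalIdeal R := by simpa using sub_mem hx hnu
      exact h1 ((Ne.isUnit hc0).map (algebraMap k R))
    rwa [hc0, map_zero, sub_zero] at hxc
  have happrox : ∀ n, ∀ b : A ⧸ m ^ (n + 1), b ∈ (m ^ n).map (Ideal.Quotient.mk (m ^ (n + 1))) →
      ∃ p ∈ maximalIdeal R ^ n, h (n + 1) p = b := by
    intro n b hb
    let J : Ideal (A ⧸ m ^ (n + 1)) := m.map (Ideal.Quotient.mk (m ^ (n + 1)))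
    have hJ0 : ∀ x, x ∈ J ^ (n + 1) → x = 0 := fun x hx => by
      rw [← Ideal.map_pow, Ideal.map_quotient_self] at hx
      exact hx
    have hle : (maximalIdeal R).map (h (n + 1)).toRingHom ≤ J := Ideal.map_le_iff_le_comap.2 fun y hy => by
      rw [Ideal.mem_comap]
      obtain ⟨a, ha⟩ := Ideal.Quotient.mk_surjective (h (n + 1) y)
      show h (n + 1) y ∈ J
      rw [← ha]
      refine Ideal.mem_map_of_mem _ ?_
      have h1 := RingHom.congr_fun (hh (show 1 ≤ n + 1 by omega)) y
      rw [RingHom.comp_apply] at h1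
      change Ideal.Quotient.factorPow m _ (h (n + 1) y) = h 1 y at h1
      rw [← ha, hm1 y hy] at h1
      rw [← pow_one m]
      exact Ideal.Quotient.eq_zero_iff_mem.1 h1
    have hgen : J ≤ (maximalIdeal R).map (h (n + 1)).toRingHom ⊔ J ^ 2 := by
      refine Ideal.map_le_iff_le_comap.2 fun a ha => ?_
      rw [Ideal.mem_comap]
      rcases Nat.eq_zero_or_pos n with hn | hn
      · subst hn
        rw [show Ideal.Quotient.mk (m ^ (0 + 1)) a = 0 by
          rw [Ideal.Quotient.eq_zero_iff_mem, zero_add, pow_one]; exact ha]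
        exact zero_mem _
      obtain ⟨r, hr⟩ := hh2 (Ideal.Quotient.mk (m ^ 2) a)
      have hrm : r ∈ maximalIdeal R := by
        rw [mem_maximalIdeal, mem_nonunits_iff]
        intro hu
        have h1 := hu.map (Ideal.Quotient.factor (Ideal.pow_le_pow_right (show 1 ≤ 2 by omega))|>.comp (h 2).toRingHom)
        rw [RingHom.comp_apply] at h1
        change IsUnit (Ideal.Quotient.factor _ (h 2 r)) at h1
        rw [hr, Ideal.Quotient.factor_mk, show Ideal.Quotient.mk (m ^ 1) a = 0 by
          rw [Ideal.Quotient.eq_zero_iff_mem, pow_one]; exact ha] at h1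
        haveI : Nontrivial (A ⧸ m ^ 1) := Ideal.Quotient.nontrivial_iff.mpr (by rw [pow_one]; exact hm.ne_top)
        exact not_isUnit_zero h1
      obtain ⟨a', ha'⟩ := Ideal.Quotient.mk_surjective (h (n + 1) r)
      have h2 := RingHom.congr_fun (hh (show 2 ≤ n + 1 by omega)) r
      rw [RingHom.comp_apply] at h2
      change Ideal.Quotient.factorPow m _ (h (n + 1) r) = h 2 r at h2
      rw [← ha', hr] at h2
      have h3 : a - a' ∈ m ^ 2 := (Ideal.Quotient.eq).1 h2.symm
      rw [← add_sub_cancel a' a, map_add]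
      refine Submodule.add_mem_sup ?_ ?_
      · rw [ha']
        exact Ideal.mem_map_of_mem _ hrm
      · rw [← Ideal.map_pow]
        exact Ideal.mem_map_of_mem _ h3
    have hres' : ∀ x, ∃ p, x - h (n + 1) p ∈ J := fun x => by
      obtain ⟨a, rfl⟩ := Ideal.Quotient.mk_surjective x
      obtain ⟨c, hc⟩ := hkres (Ideal.Quotient.mk m a)
      refine ⟨algebraMap k R c, ?_⟩
      rw [AlgHom.commutes]
      show Ideal.Quotient.mk _ a - Ideal.Quotient.mk _ (algebraMap k A c) ∈ J
      rw [← map_sub, ← neg_sub]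
      exact Ideal.mem_map_of_mem _ (neg_mem ((Ideal.Quotient.eq).1 hc))
    obtain ⟨p, hp, hpb⟩ := exists_approx_pow (h (n + 1)).toRingHom (maximalIdeal R) J hle hgen hres' n
      (b := b) (by rwa [← Ideal.map_pow])
    exact ⟨p, hp, sub_eq_zero.1 (hJ0 _ hpb)⟩
  let α := RingEquiv.ofBijective _ (bijective_liftRingHom h hh hm1 happrox e)
  have hev : ∀ n x, AdicCompletion.evalₐ m n (α x) = h n x := fun n x =>
    AdicCompletion.evalₐ_liftRingHom m (fun j => (h j).toRingHom) hh n x
  refine ⟨A, inferInstance, inferInstance, hft, m, hm, hkres, η, α, fun c => AdicCompletion.ext_evalₐ fun n => ?_,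
    fun n ψ hψ => ?_⟩
  · rw [hev, AlgHom.commutes, AlgHom.commutes]
    rfl
  · rw [show ψ = h (n + 1) from AlgHom.ext fun x => (RingHom.congr_fun hψ x).trans (hev (n + 1) x)]
    exact hFh (n + 1)

end Groth.Agent.H24Algz
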