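import Groth.Agent.S6910
import Mathlib.RingTheory.Filtration
import Mathlib.LinearAlgebra.Finsupp.LinearCombination

/-!
# Ideals with congruent generators and congruent syzygies
-/

set_option autoImplicit false
set_option linter.style.haveILetI false

universe u

namespace Groth.Agent.H24Algz

variable {B : Type u} [CommRing B] [IsNoetherianRing B] (J : Ideal B)

omit [IsNoetherianRing B] in
theorem mem_smul_top_pi {ι : Type*} [Fintype ι] [DecidableEq ι] (k : ℕ) (x : ι → B) (hx : ∀ i, x i ∈ J ^ k) :
    x ∈ J ^ k • (⊤ : Submodule B (ι → B)) := by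
  rw [pi_eq_sum_univ x]
  exact sum_mem fun i _ => Submodule.smul_mem_smul (hx i) trivial

omit [IsNoetherianRing B] in
theorem smul_top_self (k : ℕ) : (J ^ k • ⊤ : Submodule B B) = J ^ k := by
  rw [smul_eq_mul, Ideal.mul_top]

/-- The Artin-Rees bound for the image of a linear map. -/
theorem exists_artinRees_bound {M N : Type u} [AddCommGroup M] [Module B M] [AddCommGroup N] [Module B N]
    [Module.Finite B N] (g : M →ₗ[B] N) :
    ∃ c, ∀ c', c ≤ c' → ∀ n : ℕ, c' ≤ n →
      LinearMap.range g ⊓ (J ^ n • (⊤ : Submodule B N)) ≤ Submodule.map g (J ^ (n - c') • (⊤ : Submodule B M)) := by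
  obtain ⟨c, hc⟩ := J.exists_pow_inf_eq_pow_smul (LinearMap.range g)
  refine ⟨c, fun c' hcc' n hn => ?_⟩
  rw [inf_comm, hc n (hcc'.trans hn), Submodule.map_smul'', Submodule.map_top]
  exact Submodule.smul_mono (Ideal.pow_le_pow_right (Nat.sub_le_sub_left hcc' n)) inf_le_right

/-- Congruent generators with congruent syzygies cut out the same initial forms. -/
theorem exists_bound_sup_inf_eq (hJ : J ≤ Ideal.jacobson (⊥ : Ideal B)) {r s : ℕ} (f : Fin r → B)
    (S : Fin s → Fin r → B) (hSf : ∀ i, ∑ j, S i j * f j = 0)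
    (hspan : ∀ x : Fin r → B, ∑ j, x j * f j = 0 → x ∈ Submodule.span B (Set.range S)) :
    ∃ c, ∀ (f' : Fin r → B) (S' : Fin s → Fin r → B), (∀ i, ∑ j, S' i j * f' j = 0) →
      (∀ j, f j - f' j ∈ J ^ (c + 1)) → (∀ i j, S i j - S' i j ∈ J ^ (c + 1)) →
      ∀ n, J ^ (n + 1) ⊔ (Ideal.span (Set.range f) ⊓ J ^ n) =
        J ^ (n + 1) ⊔ (Ideal.span (Set.range f') ⊓ J ^ n) := by
  classical
  let F : (Fin s → B) →ₗ[B] (Fin r → B) := Fintype.linearCombination B S
  let G : (Fin r → B) →ₗ[B] B := Fintype.linearCombination B f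
  obtain ⟨c₁, hc₁⟩ := exists_artinRees_bound J F
  obtain ⟨c₂, hc₂⟩ := exists_artinRees_bound J G
  refine ⟨max c₁ c₂, fun f' S' hSf' hff' hSS' n => ?_⟩
  have hcomp : ∀ (a : Fin r → B) (T : Fin s → Fin r → B), (∀ i, ∑ j, T i j * a j = 0) →
      (Fintype.linearCombination B a).comp (Fintype.linearCombination B T) = 0 := fun a T h => by
    refine LinearMap.ext fun y => ?_
    rw [LinearMap.comp_apply, Fintype.linearCombination_apply, Fintype.linearCombination_apply, LinearMap.zero_apply]
    simp only [Finset.sum_apply, Pi.smul_apply, smul_eq_mul, Finset.sum_mul, mul_assoc]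
    rw [Finset.sum_comm]
    exact Finset.sum_eq_zero fun i _ => by rw [← Finset.mul_sum, h, mul_zero]
  have hex : Function.Exact F G := fun x => by
    refine ⟨fun hx => ?_, ?_⟩
    swap
    · rintro ⟨y, rfl⟩
      exact LinearMap.congr_fun (hcomp f S hSf) y
    have h : x ∈ LinearMap.range F := by
      rw [Fintype.range_linearCombination]
      refine hspan x ?_
      rw [← hx]
      simp [G, Fintype.linearCombination_apply, smul_eq_mul]
    exact h
  have h := S6910.result J hJ F (Fintype.linearCombination B S') G (Fintype.linearCombination B f') (max c₁ c₂)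
    (hcomp f S hSf) (hcomp f' S' hSf') (hc₁ _ (le_max_left _ _)) (hc₂ _ (le_max_right _ _)) hex
    (fun y => by
      rw [Fintype.linearCombination_apply, Fintype.linearCombination_apply, ← Finset.sum_sub_distrib]
      refine sum_mem fun i _ => ?_
      rw [← smul_sub]
      exact Submodule.smul_mem _ _ (mem_smul_top_pi J _ _ (hSS' i)))
    (fun y => by
      rw [smul_top_self, Fintype.linearCombination_apply, Fintype.linearCombination_apply, ← Finset.sum_sub_distrib]
      exact Ideal.sum_mem _ fun i _ => by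
        rw [← smul_sub, smul_eq_mul]
        exact Ideal.mul_mem_left _ _ (hff' i)) n
  simp only [G, smul_top_self, Fintype.range_linearCombination] at h
  exact h

end Groth.Agent.H24Algz
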