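import Groth.Agent.H24Algz.Setup
import Groth.Agent.H24Algz.Congruent
import Groth.Agent.S0600
import Groth.Agent.H9Popescu.Popescu
import Groth.Agent.H9Popescu.EtaleSlice
import Groth.Agent.H9Popescu.FPColimCommAlg
import Groth.Agent.H05EGA4.GRingPoly
import Groth.Agent.H05EGA4.GRing
import Groth.Agent.H05EGA4.CTensor
import Groth.Prelude.Def_GrMap2

/-!
# Artin's approximation with isomorphic graded rings
-/

set_option autoImplicit false
set_option linter.style.haveILetI false

universe u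

open CategoryTheory CategoryTheory.Limits IsLocalRing

namespace Groth.Agent.H24Algz

theorem isGRing_polynomial (k : Type u) [Field k] (d : ℕ) : CAlg.IsGRing (MvPolynomial (Fin d) k) := by
  have hk : CAlg.IsGRing k := by
    haveI : IsAdicComplete (IsLocalRing.maximalIdeal k) k := by
      rw [IsLocalRing.maximalIdeal_eq_bot]; infer_instance
    exact H05EGA4.isGRing_of_isAdicComplete k
  exact H05EGA4.isGRing_of_finiteType (R := k) hk

/-- A polynomial system solved in the completion is solved in an etale algebra to any order. -/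
theorem exists_etale_system_solution {P : Type u} [CommRing P] [IsNoetherianRing P] (m : Ideal P)
    (hreg : CAlg.IsRegularHom P (AdicCompletion m P)) {V E : Type} [Finite V] [Finite E]
    (eqs : E → MvPolynomial V P) (a : V → AdicCompletion m P) (ha : ∀ e, MvPolynomial.aeval a (eqs e) = 0)
    (M : ℕ) :
    ∃ (A : Type u) (_ : CommRing A) (_ : Algebra P A), Algebra.Etale P A ∧
      ∃ (ψ : A →ₐ[P] P ⧸ m ^ M) (b : V → A), (∀ e, MvPolynomial.aeval b (eqs e) = 0) ∧
        ∀ v, ψ (b v) = AdicCompletion.evalₐ m M (a v) := by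
  haveI : IsNoetherianRing (AdicCompletion m P) := H05EGA4.isNoetherianRing_adicCompletion P m
  let K : Ideal (MvPolynomial V P) := Ideal.span (Set.range eqs)
  have hP₁ : Algebra.FinitePresentation P (MvPolynomial V P ⧸ K) :=
    Algebra.FinitePresentation.quotient (Submodule.fg_span (Set.finite_range _))
  let f₁ : (MvPolynomial V P ⧸ K) →ₐ[P] AdicCompletion m P := Ideal.Quotient.liftₐ K (MvPolynomial.aeval a) fun z hz => by
    refine (Ideal.span_le.2 ?_ : K ≤ RingHom.ker (MvPolynomial.aeval a)) hz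
    rintro _ ⟨e, rfl⟩
    exact ha e
  obtain ⟨C, _, _, hC, g₁, h, hgh⟩ := H9Popescu.popescu hreg (MvPolynomial V P ⧸ K) hP₁ f₁
  haveI := hC
  obtain ⟨A, _, _, hA, ψ, gC, hψ⟩ := H9Popescu.exists_etale_of_smooth (k := P ⧸ m ^ M)
    (fun q => by
      obtain ⟨r, rfl⟩ := Ideal.Quotient.mk_surjective q
      exact ⟨r, 1, by simp, by simp⟩)
    ((AdicCompletion.evalₐ m M).comp h)
  let ρ : MvPolynomial V P →ₐ[P] A := (gC.comp g₁).comp (Ideal.Quotient.mkₐ P K)
  have hρ : ρ = MvPolynomial.aeval fun v => ρ (MvPolynomial.X v) :=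
    MvPolynomial.algHom_ext fun v => (MvPolynomial.aeval_X (fun v => ρ (MvPolynomial.X v)) v).symm
  refine ⟨A, inferInstance, inferInstance, hA, ψ, fun v => ρ (MvPolynomial.X v), fun e => ?_, fun v => ?_⟩
  · rw [← hρ]
    show gC (g₁ (Ideal.Quotient.mk K (eqs e))) = 0
    rw [Ideal.Quotient.eq_zero_iff_mem.2 (show eqs e ∈ K from Ideal.subset_span ⟨e, rfl⟩), map_zero, map_zero]
  · show ψ (gC (g₁ (Ideal.Quotient.mk K (MvPolynomial.X v)))) = _
    rw [← AlgHom.comp_apply, hψ, AlgHom.comp_apply, ← AlgHom.comp_apply h, hgh]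
    show AdicCompletion.evalₐ m M (MvPolynomial.aeval a (MvPolynomial.X v)) = _
    rw [MvPolynomial.aeval_X]

/-- Artin's approximation with an isomorphism of associated graded rings. -/
theorem exists_approximation_with_grIso (k : Type u) [Field k]
    (F : CommAlgCat.{u} k ⥤ Type u)
    (hF : ∀ (J : Type u) [SmallCategory J] [IsFiltered J], PreservesColimitsOfShape J F)
    (R : Type u) [CommRing R] [Algebra k R] [IsLocalRing R] [IsNoetherianRing R]
    [IsAdicComplete (maximalIdeal R) R]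
    (hres : Function.Surjective (fun c : k => residue R (algebraMap k R c)))
    (ξ : F.obj (CommAlgCat.of k R)) (N : ℕ) :
    ∃ (A : Type u) (_ : CommRing A) (_ : Algebra k A) (_ : Algebra.FiniteType k A)
      (m : Ideal A) (_ : m.IsMaximal)
      (_ : Function.Surjective (fun c : k => Ideal.Quotient.mk m (algebraMap k A c)))
      (η : F.obj (CommAlgCat.of k A))
      (φ : (R ⧸ maximalIdeal R ^ (N + 1)) ≃ₐ[k] (A ⧸ m ^ (N + 1))),
      F.map (CommAlgCat.ofHom (φ.toAlgHom.comp
          (Ideal.Quotient.mkₐ k (maximalIdeal R ^ (N + 1))))) ξ =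
        F.map (CommAlgCat.ofHom (Ideal.Quotient.mkₐ k (m ^ (N + 1)))) η ∧
      ∃ e : AssocGr.GrRing (FiltBl.IdealFiltration.adic (maximalIdeal R)) ≃+*
          AssocGr.GrRing (FiltBl.IdealFiltration.adic m),
        (∀ (n : ℕ) (x : AssocGr.GrRing (FiltBl.IdealFiltration.adic (maximalIdeal R))),
            x ∈ AssocGr.gr (FiltBl.IdealFiltration.adic (maximalIdeal R)) n →
              e x ∈ AssocGr.gr (FiltBl.IdealFiltration.adic m) n) ∧
        (∀ c : k, e (algebraMap R _ (algebraMap k R c)) = algebraMap A _ (algebraMap k A c)) := by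
  classical
  haveI : PreservesFilteredColimitsOfSize.{u, u} F := ⟨fun J _ _ => hF J⟩
  obtain ⟨d, α, hle, hgen, hap⟩ := exists_polyHom hres
  obtain ⟨π, hπα, hπs, hπpow⟩ := exists_presentation_completion α hle hgen hap
  let P := MvPolynomial (Fin d) k
  let m := origin k d
  let B := AdicCompletion m P
  let J : Ideal B := m.map (algebraMap P B)
  haveI : IsNoetherianRing B := H05EGA4.isNoetherianRing_adicCompletion P m
  haveI hJc : IsAdicComplete J B := isAdicComplete_map m
  -- generators and syzygies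
  obtain ⟨r, f, hf⟩ := Submodule.fg_iff_exists_fin_generating_family.1
    (IsNoetherian.noetherian (RingHom.ker π.toRingHom : Ideal B))
  replace hf : Ideal.span (Set.range f) = RingHom.ker π.toRingHom := hf
  let G : (Fin r → B) →ₗ[B] B := Fintype.linearCombination B f
  obtain ⟨s, S, hS⟩ := Submodule.fg_iff_exists_fin_generating_family.1
    (IsNoetherian.noetherian (LinearMap.ker G))
  have hSf : ∀ i, ∑ j, S i j * f j = 0 := fun i => by
    have h : S i ∈ LinearMap.ker G := hS ▸ Submodule.subset_span ⟨i, rfl⟩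
    simpa [G, Fintype.linearCombination_apply] using h
  have hspan : ∀ x : Fin r → B, ∑ j, x j * f j = 0 → x ∈ Submodule.span B (Set.range S) := fun x hx => by
    rw [hS]
    simpa [G, Fintype.linearCombination_apply] using hx
  obtain ⟨c, hc⟩ := exists_bound_sup_inf_eq J (IsAdicComplete.le_jacobson_bot J) f S hSf hspan
  -- the element comes from a finitely presented algebra
  obtain ⟨Q, _, _, hQ, g, η₀, rfl⟩ := H9Popescu.exists_finitePresentation_of_preservesFilteredColimits F R ξ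
  obtain ⟨ny, q, hq, hqfg⟩ := hQ.out
  obtain ⟨t, hrel, hhrel⟩ := Submodule.fg_iff_exists_fin_generating_family.1 hqfg
  replace hhrel : Ideal.span (Set.range hrel) = RingHom.ker q.toRingHom := hhrel
  choose z hz using fun i => hπs (g (q (MvPolynomial.X i)))
  have hzrel : ∀ l, MvPolynomial.aeval z (hrel l) ∈ Ideal.span (Set.range f) := fun l => by
    have h1 : π.comp (MvPolynomial.aeval z) = g.comp q :=
      MvPolynomial.algHom_ext fun i => by rw [AlgHom.comp_apply, MvPolynomial.aeval_X, hz]; rfl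
    have h2 : q (hrel l) = 0 := RingHom.mem_ker.1 (hhrel ▸ Ideal.subset_span ⟨l, rfl⟩ : hrel l ∈ RingHom.ker q.toRingHom)
    rw [hf, RingHom.mem_ker]
    show π (MvPolynomial.aeval z (hrel l)) = 0
    rw [← AlgHom.comp_apply, h1, AlgHom.comp_apply, h2, map_zero]
  choose co hco using fun l => (Ideal.mem_span_range_iff_exists_fun).1 (hzrel l)
  -- the polynomial system
  let V := Fin r ⊕ (Fin s × Fin r) ⊕ Fin ny ⊕ (Fin t × Fin r)
  let vf : Fin r → MvPolynomial V P := fun j => MvPolynomial.X (Sum.inl j)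
  let vS : Fin s → Fin r → MvPolynomial V P := fun i j => MvPolynomial.X (Sum.inr (Sum.inl (i, j)))
  let vy : Fin ny → MvPolynomial V P := fun i => MvPolynomial.X (Sum.inr (Sum.inr (Sum.inl i)))
  let va : Fin t → Fin r → MvPolynomial V P := fun l j => MvPolynomial.X (Sum.inr (Sum.inr (Sum.inr (l, j))))
  let eqs : Fin s ⊕ Fin t → MvPolynomial V P := Sum.elim (fun i => ∑ j, vS i j * vf j)
    (fun l => MvPolynomial.aeval vy (hrel l) - ∑ j, va l j * vf j)
  let val : V → B := Sum.elim f (Sum.elim (fun p => S p.1 p.2) (Sum.elim z (fun p => co p.1 p.2)))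
  have hev : ∀ {T : Type u} [CommRing T] [Algebra P T] [Algebra k T] [IsScalarTower k P T] (b : V → T) (l : Fin t),
      MvPolynomial.aeval b (MvPolynomial.aeval vy (hrel l)) =
        MvPolynomial.aeval (fun i => b (Sum.inr (Sum.inr (Sum.inl i)))) (hrel l) := by
    intro T _ _ _ _ b l
    have h : ((MvPolynomial.aeval b : MvPolynomial V P →ₐ[P] T).restrictScalars k).comp (MvPolynomial.aeval vy) =
        MvPolynomial.aeval (fun i => b (Sum.inr (Sum.inr (Sum.inl i)))) :=
      MvPolynomial.algHom_ext fun i => by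
        simp [vy]
    exact AlgHom.congr_fun h (hrel l)
  have hval : ∀ e, MvPolynomial.aeval val (eqs e) = 0 := by
    rintro (i | l)
    · simp [eqs, vS, vf, val, hSf]
    · simp only [eqs, Sum.elim_inr, map_sub, map_sum, map_mul, va, vf, MvPolynomial.aeval_X]
      rw [hev val l, sub_eq_zero]
      exact (hco l).symm
  let M₀ := max N c
  obtain ⟨A', _, _, hA', ψ, b, hb, hψb⟩ := exists_etale_system_solution m
    (S0600.result P (isGRing_polynomial k d) m) eqs val hval (M₀ + 1)
  haveI := hA'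
  letI : Algebra k A' := ((algebraMap P A').comp (algebraMap k P)).toAlgebra
  haveI : IsScalarTower k P A' := IsScalarTower.of_algebraMap_eq' rfl
  let ψ₁ : A' →ₐ[P] P ⧸ m := (Ideal.Quotient.factorₐ P (Ideal.pow_le_self M₀.succ_ne_zero)).comp ψ
  obtain ⟨σ, hσ⟩ := exists_sigma m ψ₁
  have hσ0 := evalₐ_sigma_eq_zero_iff m ψ₁ hσ
  have hσψ : ∀ a, AdicCompletion.evalₐ m (M₀ + 1) (σ a) = ψ a := fun a => by
    obtain ⟨p, hp⟩ := exists_approx_point m ψ₁ (M₀ + 1) a
    rw [hσ _ a p hp]
    have h := ker_pow_le m ψ₁ ψ rfl hp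
    rw [RingHom.mem_ker, map_sub, sub_eq_zero, ψ.commutes] at h
    exact h.symm
  have hcong : ∀ v, val v - σ (b v) ∈ J ^ (M₀ + 1) := fun v => by
    rw [mem_map_pow_iff, map_sub, hσψ, hψb, sub_self]
  have hσJ : ∀ (n : ℕ) (a : A'), σ a ∈ J ^ n ↔ a ∈ RingHom.ker ψ₁ ^ n := fun n a => by
    rw [mem_map_pow_iff]
    exact hσ0 n a
  -- the perturbed generators
  let fA : Fin r → A' := fun j => b (Sum.inl j)
  let f' : Fin r → B := fun j => σ (fA j)
  have hrelA : ∀ l, MvPolynomial.aeval (fun i => b (Sum.inr (Sum.inr (Sum.inl i)))) (hrel l) =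
      ∑ j, b (Sum.inr (Sum.inr (Sum.inr (l, j)))) * fA j := fun l => by
    have h := hb (Sum.inr l)
    simp only [eqs, Sum.elim_inr, map_sub, map_sum, map_mul, va, vf, MvPolynomial.aeval_X, sub_eq_zero] at h
    rw [hev b l] at h
    exact h
  have hsyz : ∀ i, ∑ j, σ (b (Sum.inr (Sum.inl (i, j)))) * f' j = 0 := fun i => by
    have h := congrArg σ (hb (Sum.inl i))
    simpa [eqs, vS, vf, f', fA] using h
  have hJc' : J ^ (M₀ + 1) ≤ J ^ (c + 1) := Ideal.pow_le_pow_right (Nat.succ_le_succ (le_max_right N c))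
  have hgr := hc f' (fun i j => σ (b (Sum.inr (Sum.inl (i, j))))) hsyz
    (fun j => hJc' (hcong (Sum.inl j))) (fun i j => hJc' (hcong (Sum.inr (Sum.inl (i, j)))))
  -- facts about the presentation of `R`
  have hJ0 : ∀ w : B, π w ∈ maximalIdeal R → w ∈ J := fun w hw => by
    obtain ⟨p, hp⟩ := exists_approx_completion m 1 w
    rw [pow_one] at hp
    have h1 := hπpow 1 _ (by rwa [pow_one] : w - algebraMap P B p ∈ J ^ 1)
    rw [pow_one, map_sub, hπα] at h1
    have h2 : α p ∈ maximalIdeal R := by simpa using sub_mem hw h1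
    have h3 : p ∈ m := by
      have h4 : (maximalIdeal R).comap α.toRingHom = m := ((origin_isMaximal k d).eq_of_le
        (Ideal.comap_ne_top _ (maximalIdeal.isMaximal R).ne_top) (Ideal.map_le_iff_le_comap.1 hle)).symm
      rw [← h4]
      exact h2
    rw [← sub_add_cancel w (algebraMap P B p)]
    exact add_mem hp (Ideal.mem_map_of_mem _ h3)
  have hmR : ∀ n, maximalIdeal R ^ n = (J ^ n).map π.toRingHom := fun n => by
    rw [Ideal.map_pow]
    congr 1
    refine le_antisymm (fun x hx => ?_) (Ideal.map_le_iff_le_comap.2 fun w hw => ?_)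
    · obtain ⟨w, rfl⟩ := hπs x
      exact Ideal.mem_map_of_mem _ (hJ0 w hx)
    · have h := hπpow 1 w (by rwa [pow_one])
      rwa [pow_one] at h
  have hαmem : ∀ (n : ℕ) (p : P), α p ∈ maximalIdeal R ^ n ↔
      algebraMap P B p ∈ J ^ n ⊔ Ideal.span (Set.range f) := fun n p => by
    rw [hf, ← hπα, hmR]
    constructor
    · intro h
      obtain ⟨w, hw, hwp⟩ := (Ideal.mem_map_iff_of_surjective π.toRingHom hπs).1 h
      rw [← add_sub_cancel w (algebraMap P B p)]
      refine Submodule.add_mem_sup hw ?_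
      rw [RingHom.mem_ker, map_sub, sub_eq_zero]
      exact hwp.symm
    · intro h
      obtain ⟨u, hu, v, hv, huv⟩ := Submodule.mem_sup.1 h
      rw [← huv, map_add, show π v = 0 from RingHom.mem_ker.1 hv, add_zero]
      exact Ideal.mem_map_of_mem π.toRingHom hu
  -- the algebra
  let I : Ideal A' := Ideal.span (Set.range fA)
  let K : Ideal A' := RingHom.ker ψ₁
  let mA : Ideal (A' ⧸ I) := K.map (Ideal.Quotient.mk I)
  have hmA : ∀ (n : ℕ) (a : A'), Ideal.Quotient.mk I a ∈ mA ^ n ↔ a ∈ K ^ n ⊔ I := fun n a => by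
    rw [← Ideal.map_pow]
    exact Ideal.mem_quotient_iff_mem_sup
  have hIK : I ≤ K := Ideal.span_le.2 <| by
    rintro _ ⟨j, rfl⟩
    have h : σ (fA j) ∈ J ^ 1 := by
      rw [← sub_sub_cancel (f j) (σ (fA j))]
      refine sub_mem ?_ (Ideal.pow_le_pow_right (Nat.succ_pos _) (hcong (Sum.inl j)))
      rw [pow_one]
      refine hJ0 _ ?_
      have h0 : π (f j) = 0 := RingHom.mem_ker.1 (hf ▸ Ideal.subset_span ⟨j, rfl⟩ : f j ∈ RingHom.ker π.toRingHom)
      rw [h0]
      exact zero_mem _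
    have h' := (hσJ 1 _).1 h
    rwa [pow_one] at h'
  have hKmax : K.IsMaximal := by
    letI : Field (P ⧸ m) := (Ideal.Quotient.field m : Field (P ⧸ m))
    refine RingHom.ker_isMaximal_of_surjective ψ₁ fun x => ?_
    obtain ⟨p, rfl⟩ := Ideal.Quotient.mk_surjective (I := m) x
    exact ⟨algebraMap P A' p, ψ₁.commutes p⟩
  have hmAmax : mA.IsMaximal := by
    refine (Ideal.map_eq_top_or_isMaximal_of_surjective _ Ideal.Quotient.mk_surjective hKmax).resolve_left fun h => ?_
    refine hKmax.ne_top ((Ideal.eq_top_iff_one K).2 ?_)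
    have h1 := (hmA 1 1).1 (by rw [pow_one, show mA = ⊤ from h]; exact Submodule.mem_top)
    rwa [pow_one, sup_of_le_left hIK] at h1
  let β : P →ₐ[k] A' ⧸ I := IsScalarTower.toAlgHom k P (A' ⧸ I)
  have hβ : ∀ p, β p = Ideal.Quotient.mk I (algebraMap P A' p) := fun p => rfl
  have hleA : m.map β.toRingHom ≤ mA := Ideal.map_le_iff_le_comap.2 fun p hp => by
    rw [Ideal.mem_comap]
    exact Ideal.mem_map_of_mem _ (map_le_ker m ψ₁ (Ideal.mem_map_of_mem _ hp))
  have hgenA : mA ≤ m.map β.toRingHom ⊔ mA ^ 2 := by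
    rw [← Ideal.map_pow]
    refine (Ideal.map_mono (ker_le_map_sup_sq m ψ₁)).trans ?_
    rw [Ideal.map_sup, Ideal.map_map]
    rfl
  have hapA : ∀ a, ∃ p, a - β p ∈ mA := fun a => by
    obtain ⟨a, rfl⟩ := Ideal.Quotient.mk_surjective a
    obtain ⟨p, hp⟩ := exists_sub_mem_ker m ψ₁ a
    exact ⟨p, by rw [hβ, ← map_sub]; exact Ideal.mem_map_of_mem _ hp⟩
  have hβmem : ∀ (n : ℕ) (p : P), β p ∈ mA ^ n ↔
      algebraMap P B p ∈ J ^ n ⊔ Ideal.span (Set.range f') := fun n p => by
    rw [hβ, hmA]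
    constructor
    · intro h
      obtain ⟨u, hu, v, hv, huv⟩ := Submodule.mem_sup.1 h
      rw [← σ.commutes p, ← huv, map_add]
      refine Submodule.add_mem_sup ((hσJ n u).2 hu) ?_
      have h' := Ideal.mem_map_of_mem σ hv
      rw [Ideal.map_span, ← Set.range_comp] at h'
      exact h'
    · intro h
      obtain ⟨u, hu, v, hv, huv⟩ := Submodule.mem_sup.1 h
      obtain ⟨co', hco'⟩ := Ideal.mem_span_range_iff_exists_fun.1 hv
      choose p' hp' using fun j => exists_approx_completion m n (co' j)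
      have h1 : algebraMap P A' p - ∑ j, algebraMap P A' (p' j) * fA j ∈ K ^ n := by
        refine (hσJ n _).1 ?_
        rw [map_sub, σ.commutes, map_sum, ← huv, ← hco', add_sub_assoc, ← Finset.sum_sub_distrib]
        refine add_mem hu (Ideal.sum_mem _ fun j _ => ?_)
        rw [map_mul, σ.commutes, ← sub_mul]
        exact Ideal.mul_mem_right _ _ (hp' j)
      rw [← sub_add_cancel (algebraMap P A' p) (∑ j, algebraMap P A' (p' j) * fA j)]
      exact Submodule.add_mem_sup h1 (Ideal.sum_mem _ fun j _ => Ideal.mul_mem_left _ _ (Ideal.subset_span ⟨j, rfl⟩))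
  -- equality of the initial forms
  have hswap : ∀ (f₁ f₂ : Fin r → B) (n : ℕ) (x : B), x ∈ J ^ n →
      J ^ (n + 1) ⊔ (Ideal.span (Set.range f₁) ⊓ J ^ n) = J ^ (n + 1) ⊔ (Ideal.span (Set.range f₂) ⊓ J ^ n) →
      x ∈ J ^ (n + 1) ⊔ Ideal.span (Set.range f₁) → x ∈ J ^ (n + 1) ⊔ Ideal.span (Set.range f₂) := by
    intro f₁ f₂ n x hx heq h
    obtain ⟨u, hu, v, hv, huv⟩ := Submodule.mem_sup.1 h
    have hv' : v ∈ J ^ n := by
      rw [show v = x - u by rw [← huv, add_sub_cancel_left]]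
      exact sub_mem hx (Ideal.pow_le_pow_right n.le_succ hu)
    have h1 : x ∈ J ^ (n + 1) ⊔ (Ideal.span (Set.range f₁) ⊓ J ^ n) := huv ▸ Submodule.add_mem_sup hu ⟨hv, hv'⟩
    rw [heq] at h1
    exact (sup_le le_sup_left (inf_le_left.trans le_sup_right) :
      J ^ (n + 1) ⊔ (Ideal.span (Set.range f₂) ⊓ J ^ n) ≤ _) h1
  have hk : ∀ n, ∀ p ∈ m ^ n, α p ∈ maximalIdeal R ^ (n + 1) ↔ β p ∈ mA ^ (n + 1) := fun n p hp => by
    have hp' : algebraMap P B p ∈ J ^ n := (algebraMap_mem_map_pow_iff m n p).2 hp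
    rw [hαmem, hβmem]
    exact ⟨hswap _ _ n _ hp' (hgr n), hswap _ _ n _ hp' (hgr n).symm⟩
  -- agreement up to order N
  have hNM : J ^ (M₀ + 1) ≤ J ^ (N + 1) := Ideal.pow_le_pow_right (Nat.succ_le_succ (le_max_left N c))
  have hN : J ^ (N + 1) ⊔ Ideal.span (Set.range f) = J ^ (N + 1) ⊔ Ideal.span (Set.range f') := by
    have key : ∀ (f₁ f₂ : Fin r → B), (∀ j, f₁ j - f₂ j ∈ J ^ (N + 1)) →
        J ^ (N + 1) ⊔ Ideal.span (Set.range f₁) ≤ J ^ (N + 1) ⊔ Ideal.span (Set.range f₂) := by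
      refine fun f₁ f₂ h => sup_le le_sup_left (Ideal.span_le.2 ?_)
      rintro _ ⟨j, rfl⟩
      rw [← sub_add_cancel (f₁ j) (f₂ j)]
      exact Submodule.add_mem_sup (h j) (Ideal.subset_span ⟨j, rfl⟩)
    exact le_antisymm (key f f' fun j => hNM (hcong (Sum.inl j)))
      (key f' f fun j => by rw [← neg_sub]; exact neg_mem (hNM (hcong (Sum.inl j))))
  let aR : P →ₐ[k] R ⧸ maximalIdeal R ^ (N + 1) := (Ideal.Quotient.mkₐ k _).comp α
  let aA : P →ₐ[k] (A' ⧸ I) ⧸ mA ^ (N + 1) := (Ideal.Quotient.mkₐ k _).comp β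
  have haR : Function.Surjective aR := fun x => by
    obtain ⟨x, rfl⟩ := Ideal.Quotient.mk_surjective x
    obtain ⟨p, hp⟩ := exists_approx α.toRingHom m (maximalIdeal R) hle hgen hap (N + 1) x
    exact ⟨p, ((Ideal.Quotient.eq).2 hp).symm⟩
  have haA : Function.Surjective aA := fun x => by
    obtain ⟨x, rfl⟩ := Ideal.Quotient.mk_surjective x
    obtain ⟨p, hp⟩ := exists_approx β.toRingHom m mA hleA hgenA hapA (N + 1) x
    exact ⟨p, ((Ideal.Quotient.eq).2 hp).symm⟩
  have hker : RingHom.ker aR = RingHom.ker aA := by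
    ext p
    rw [RingHom.mem_ker, RingHom.mem_ker]
    show Ideal.Quotient.mk _ (α p) = 0 ↔ Ideal.Quotient.mk _ (β p) = 0
    rw [Ideal.Quotient.eq_zero_iff_mem, Ideal.Quotient.eq_zero_iff_mem, hαmem, hβmem, hN]
  let φ : (R ⧸ maximalIdeal R ^ (N + 1)) ≃ₐ[k] ((A' ⧸ I) ⧸ mA ^ (N + 1)) :=
    ((Ideal.quotientKerAlgEquivOfSurjective haR).symm.trans (Ideal.quotientEquivAlgOfEq k hker)).trans
      (Ideal.quotientKerAlgEquivOfSurjective haA)
  have hφ : ∀ p, φ (Ideal.Quotient.mk _ (α p)) = Ideal.Quotient.mk _ (β p) := fun p => by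
    have h1 : (Ideal.quotientKerAlgEquivOfSurjective haR).symm (aR p) = Ideal.Quotient.mk _ p := by
      rw [AlgEquiv.symm_apply_eq, Ideal.quotientKerAlgEquivOfSurjective_mk]
    show Ideal.quotientKerAlgEquivOfSurjective haA (Ideal.quotientEquivAlgOfEq k hker
      ((Ideal.quotientKerAlgEquivOfSurjective haR).symm (aR p))) = _
    rw [h1]
    exact Ideal.quotientKerAlgEquivOfSurjective_mk haA p
  -- the element over the algebra
  let θ₀ : MvPolynomial (Fin ny) k →ₐ[k] A' ⧸ I :=
    (Ideal.Quotient.mkₐ k I).comp (MvPolynomial.aeval fun i => b (Sum.inr (Sum.inr (Sum.inl i))))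
  have hθ₀ : ∀ x ∈ RingHom.ker q.toRingHom, θ₀ x = 0 := fun x hx => by
    rw [← hhrel] at hx
    refine (Ideal.span_le.2 ?_ : Ideal.span (Set.range hrel) ≤ RingHom.ker θ₀) hx
    rintro _ ⟨l, rfl⟩
    show Ideal.Quotient.mk I (MvPolynomial.aeval _ (hrel l)) = 0
    rw [hrelA, Ideal.Quotient.eq_zero_iff_mem]
    exact Ideal.sum_mem _ fun j _ => Ideal.mul_mem_left _ _ (Ideal.subset_span ⟨j, rfl⟩)
  let θ : Q →ₐ[k] A' ⧸ I :=
    (Ideal.Quotient.liftₐ (RingHom.ker q) θ₀ hθ₀).comp (Ideal.quotientKerAlgEquivOfSurjective hq).symm.toAlgHom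
  have hθ : ∀ x, θ (q x) = θ₀ x := fun x => by
    have h1 : (Ideal.quotientKerAlgEquivOfSurjective hq).symm (q x) = Ideal.Quotient.mk _ x := by
      rw [AlgEquiv.symm_apply_eq, Ideal.quotientKerAlgEquivOfSurjective_mk]
    show Ideal.Quotient.liftₐ (RingHom.ker q) θ₀ hθ₀ ((Ideal.quotientKerAlgEquivOfSurjective hq).symm (q x)) = _
    rw [h1]
    rfl
  have hcompat : (φ.toAlgHom.comp (Ideal.Quotient.mkₐ k (maximalIdeal R ^ (N + 1)))).comp g =
      (Ideal.Quotient.mkₐ k (mA ^ (N + 1))).comp θ := by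
    suffices h : ((φ.toAlgHom.comp (Ideal.Quotient.mkₐ k (maximalIdeal R ^ (N + 1)))).comp g).comp q =
        ((Ideal.Quotient.mkₐ k (mA ^ (N + 1))).comp θ).comp q by
      exact AlgHom.ext fun x => by
        obtain ⟨y, rfl⟩ := hq x
        exact AlgHom.congr_fun h y
    refine MvPolynomial.algHom_ext fun i => ?_
    show φ (Ideal.Quotient.mk _ (g (q (MvPolynomial.X i)))) = Ideal.Quotient.mk _ (θ (q (MvPolynomial.X i)))
    rw [hθ]
    show _ = Ideal.Quotient.mk _ (Ideal.Quotient.mk I (MvPolynomial.aeval _ (MvPolynomial.X i)))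
    rw [MvPolynomial.aeval_X]
    obtain ⟨p, hp⟩ := exists_approx_completion m (N + 1) (z i)
    have h1 : (Ideal.Quotient.mk (maximalIdeal R ^ (N + 1))) (g (q (MvPolynomial.X i))) =
        Ideal.Quotient.mk _ (α p) := by
      rw [Ideal.Quotient.eq, ← hz, ← hπα, ← map_sub]
      exact hπpow _ _ hp
    rw [h1, hφ, Ideal.Quotient.eq, hβ, ← map_sub]
    refine (hmA (N + 1) _).2 (Ideal.mem_sup_left ((hσJ (N + 1) _).1 ?_))
    rw [map_sub, σ.commutes]
    rw [show algebraMap P B p - σ (b (Sum.inr (Sum.inr (Sum.inl i)))) =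
      (z i - σ (b (Sum.inr (Sum.inr (Sum.inl i))))) - (z i - algebraMap P B p) by ring]
    exact sub_mem (hNM (hcong (Sum.inr (Sum.inr (Sum.inl i))))) hp
  haveI : Algebra.FiniteType k A' := Algebra.FiniteType.trans (R := k) (S := P) inferInstance inferInstance
  have hkres : Function.Surjective (fun c : k => Ideal.Quotient.mk mA (algebraMap k (A' ⧸ I) c)) := fun x => by
    obtain ⟨x, rfl⟩ := Ideal.Quotient.mk_surjective x
    obtain ⟨p, hp⟩ := hapA x
    refine ⟨MvPolynomial.constantCoeff p, (Ideal.Quotient.eq).2 ?_⟩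
    rw [show algebraMap k (A' ⧸ I) (MvPolynomial.constantCoeff p) - x =
      (β (MvPolynomial.C (MvPolynomial.constantCoeff p)) - β p) - (x - β p) by
        rw [show MvPolynomial.C (MvPolynomial.constantCoeff p) = algebraMap k P (MvPolynomial.constantCoeff p) from rfl,
          β.commutes]; ring]
    refine sub_mem ?_ hp
    rw [← map_sub]
    refine hleA (Ideal.mem_map_of_mem β.toRingHom ?_)
    show MvPolynomial.constantCoeff _ = 0
    rw [map_sub, MvPolynomial.constantCoeff_C, sub_self]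
  obtain ⟨e, he, hep⟩ := exists_grIso (isFiltHom_of_le α.toRingHom m _ hle) (isFiltHom_of_le β.toRingHom m _ hleA)
    (fun n _ hb => exists_approx_pow α.toRingHom m _ hle hgen hap n hb)
    (fun n _ hb => exists_approx_pow β.toRingHom m _ hleA hgenA hapA n hb) hk
  refine ⟨A' ⧸ I, inferInstance, inferInstance, Algebra.FiniteType.of_surjective (Ideal.Quotient.mkₐ k I)
      Ideal.Quotient.mk_surjective, mA, hmAmax, hkres, F.map (CommAlgCat.ofHom θ) η₀, φ, ?_, e, he, fun c => ?_⟩
  · rw [← Functor.map_comp_apply, ← Functor.map_comp_apply, ← CommAlgCat.ofHom_comp, ← CommAlgCat.ofHom_comp, hcompat]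
  · have h := hep (algebraMap k P c)
    rw [show α.toRingHom (algebraMap k P c) = algebraMap k R c from α.commutes c,
      show β.toRingHom (algebraMap k P c) = algebraMap k (A' ⧸ I) c from β.commutes c] at h
    exact h

end Groth.Agent.H24Algz
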