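import Groth.Prelude.Def_Algz
import Groth.Prelude.Def_Cyc
import Mathlib.AlgebraicGeometry.Noetherian

/-! The distance function `deltaZ`. -/

set_option autoImplicit false
set_option linter.style.haveILetI false

universe u

open AlgebraicGeometry TopologicalSpace Topology Order

namespace Groth.Agent.H24Algz

section Top

variable {Y : Type u} [TopologicalSpace Y]

/-- The specialisation order with generic points big. -/
abbrev SO (v : Y) := Set.Ici (Specialization.toEquiv v)

theorem le_codimPt {w v : Y} (h : w ⤳ v) (s : LTSeries (Specialization Y)) (hh : Specialization.toEquiv v ≤ s.head)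
    (hl : s.last = Specialization.toEquiv w) : (s.length : ℕ∞) ≤ Algz.codimPt w v h := by
  let s' : LTSeries (SO v) :=
    LTSeries.mk s.length (fun i => ⟨s i, le_trans hh (s.monotone (Fin.zero_le i))⟩) fun i j hij => s.strictMono hij
  refine le_trans (le_of_eq ?_) (Order.length_le_height (p := s') (le_of_eq ?_))
  · rfl
  · exact Subtype.ext hl

theorem codimPt_le {w v : Y} (h : w ⤳ v) {n : ℕ∞}
    (H : ∀ s : LTSeries (Specialization Y), Specialization.toEquiv v ≤ s.head →
      s.last = Specialization.toEquiv w → (s.length : ℕ∞) ≤ n) : Algz.codimPt w v h ≤ n :=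
  Order.height_le fun p hp => H (p.map Subtype.val (fun _ _ hab => hab)) p.head.2 (congrArg Subtype.val hp)

theorem codimPt_mono {w v v' : Y} (h : w ⤳ v) (h' : w ⤳ v') (hv : v ⤳ v') :
    Algz.codimPt w v h ≤ Algz.codimPt w v' h' :=
  codimPt_le h fun s hh hl => le_codimPt h' s (le_trans hv hh) hl

theorem one_le_codimPt [T0Space Y] {w v : Y} (h : w ⤳ v) (hne : w ≠ v) : 1 ≤ Algz.codimPt w v h := by
  have hlt : Specialization.toEquiv v < Specialization.toEquiv w :=
    lt_of_le_not_ge h fun h' => hne (h.antisymm h').eq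
  simpa using le_codimPt h ((RelSeries.singleton _ (Specialization.toEquiv w)).cons (Specialization.toEquiv v) hlt)
    (by simp) (by simp)

theorem codimPt_self [T0Space Y] (w : Y) : Algz.codimPt w w specializes_rfl = 0 := by
  refine le_antisymm (codimPt_le _ fun s hh hl => ?_) bot_le
  rcases Nat.eq_zero_or_pos s.length with h0 | h0
  · simp [h0]
  · exfalso
    have hlt : s.head < s.last := s.strictMono (show (0 : Fin (s.length + 1)) < Fin.last _ by
      rw [Fin.lt_def]; simpa using h0)
    exact lt_irrefl _ (lt_of_le_of_lt hh (hl ▸ hlt))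

theorem codimPt_le_one_of_immediate [T0Space Y] {w v : Y} (h : w ⤳ v)
    (hi : ∀ z : Y, w ⤳ z → z ⤳ v → z = w ∨ z = v) : Algz.codimPt w v h ≤ 1 := by
  refine codimPt_le h fun s hh hl => ?_
  by_contra hlt
  rw [not_le, Nat.one_lt_cast] at hlt
  let i : Fin (s.length + 1) := ⟨1, by omega⟩
  have h1 : Specialization.toEquiv v < s i :=
    lt_of_le_of_lt hh (s.strictMono (show (0 : Fin (s.length + 1)) < i by rw [Fin.lt_def]; simp [i]))
  have h2 : s i < Specialization.toEquiv w :=
    hl ▸ s.strictMono (show i < Fin.last _ by rw [Fin.lt_def]; simpa [i] using hlt)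
  rcases hi (Specialization.ofEquiv (s i)) h2.le h1.le with h3 | h3
  · exact h2.ne h3
  · exact h1.ne' h3

theorem deltaZ_le {Z : Set Y} {y : Y} {k : ℕ} (S : Algz.DSystem Z y k) : Algz.deltaZ Z y ≤ S.delta :=
  iInf₂_le k S

theorem exists_delta_eq {Z : Set Y} {y : Y} {n : ℕ} (hn : Algz.deltaZ Z y = n) :
    ∃ (k : ℕ) (S : Algz.DSystem Z y k), S.delta = n := by
  by_contra hc
  push Not at hc
  have h : ((n + 1 : ℕ) : ℕ∞) ≤ Algz.deltaZ Z y := by
    refine le_iInf₂ fun k S => ?_
    have h1 : (n : ℕ∞) ≤ S.delta := hn ▸ deltaZ_le S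
    rcases lt_or_eq_of_le h1 with h2 | h2
    · rw [Nat.cast_add, Nat.cast_one]
      exact Order.add_one_le_of_lt h2
    · exact absurd h2.symm (hc k S)
  rw [hn, Nat.cast_le] at h
  omega

/-- A system on an open gives a system on the space. -/
theorem deltaZ_le_of_isOpenEmbedding {Y' : Type u} [TopologicalSpace Y'] (ι : Y' → Y)
    (hι : IsOpenEmbedding ι) (Z : Set Y) (y' : Y') : Algz.deltaZ Z (ι y') ≤ Algz.deltaZ (ι ⁻¹' Z) y' := by
  refine le_iInf₂ fun k S => ?_
  let T : Algz.DSystem Z (ι y') k :=
    { v := fun i => ι (S.v i)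
      w := fun i => ι (S.w i)
      spec := fun i => (S.spec i).map hι.continuous
      spec_succ := fun i => (S.spec_succ i).map hι.continuous
      start_mem := S.start_mem
      last_eq := congrArg ι S.last_eq }
  have hc : ∀ (w v : Y') (h : w ⤳ v), Algz.codimPt (ι w) (ι v) (h.map hι.continuous) = Algz.codimPt w v h := by
    intro w v h
    refine le_antisymm (codimPt_le _ fun s hh hl => ?_) (codimPt_le _ fun s hh hl => ?_)
    · have hmem : ∀ i, ∃ z, ι z = Specialization.ofEquiv (s i) := fun i =>
        IsOpen.stableUnderGeneralization hι.isOpen_range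
          (show Specialization.toEquiv (ι v) ≤ s i from le_trans hh (s.monotone (Fin.zero_le i))) ⟨v, rfl⟩
      choose g hg using hmem
      have hmono : ∀ i j : Fin (s.length + 1), i < j → Specialization.toEquiv (g i) < Specialization.toEquiv (g j) := by
        intro i j hij
        have h1 := s.strictMono hij
        refine lt_of_le_not_ge ?_ fun h' => ?_
        · show g j ⤳ g i
          rw [← hι.isInducing.specializes_iff, hg, hg]
          exact h1.le
        · have h3 : ι (g i) ⤳ ι (g j) := hι.isInducing.specializes_iff.mpr h'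
          rw [hg, hg] at h3
          exact (not_le_of_gt h1) h3
      refine le_trans (le_of_eq ?_) (le_codimPt h (LTSeries.mk s.length (fun i => Specialization.toEquiv (g i)) hmono) ?_ ?_)
      · rfl
      · show g 0 ⤳ v
        rw [← hι.isInducing.specializes_iff, hg]
        exact hh
      · refine congrArg Specialization.toEquiv (hι.injective ?_)
        exact (hg _).trans (congrArg Specialization.ofEquiv hl)
    · let s' : LTSeries (Specialization Y) := LTSeries.mk s.length
        (fun i => Specialization.toEquiv (ι (Specialization.ofEquiv (s i)))) fun i j hij => by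
          have h1 := s.strictMono hij
          refine lt_of_le_not_ge ?_ fun h' => ?_
          · exact hι.isInducing.specializes_iff.mpr h1.le
          · exact (not_le_of_gt h1) (hι.isInducing.specializes_iff.mp h')
      refine le_trans (le_of_eq ?_) (le_codimPt _ s' ?_ ?_)
      · rfl
      · exact hι.isInducing.specializes_iff.mpr hh
      · exact congrArg (fun z => Specialization.toEquiv (ι (Specialization.ofEquiv z))) hl
  refine (deltaZ_le T).trans (le_of_eq ?_)
  exact congrArg ((k : ℕ∞) + ·) (Finset.sup_congr rfl fun i _ => congrArg₂ (· - ·)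
    (Finset.sum_congr rfl fun j _ => hc _ _ _) (Finset.sum_congr rfl fun j _ => hc _ _ _))

theorem deltaZ_le_codimPt {Z : Set Y} {y z : Y} (h : y ⤳ z) (hz : z ∈ Z) :
    Algz.deltaZ Z y ≤ Algz.codimPt y z h := by
  refine (deltaZ_le ⟨fun _ : Fin 1 => z, fun _ => y, fun _ => h, fun i => i.elim0, hz, rfl⟩).trans (le_of_eq ?_)
  simp [Algz.DSystem.delta, Algz.DSystem.c]

theorem deltaZ_zero [T0Space Y] {Z : Set Y} {y : Y} (hy : y ∈ Z) : Algz.deltaZ Z y = 0 :=
  le_antisymm ((deltaZ_le_codimPt specializes_rfl hy).trans (codimPt_self y).le) bot_le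

theorem deltaZ_le_of_specializes [T0Space Y] {Z : Set Y} (hZ : IsClosed Z) {y y' : Y} (h : y ⤳ y') :
    Algz.deltaZ Z y' ≤ Algz.deltaZ Z y := by
  classical
  rcases eq_or_ne y y' with rfl | hne
  · exact le_rfl
  refine le_iInf₂ fun k S => ?_
  let F : Fin (k + 1) → ℕ∞ := fun i =>
    (∑ j ∈ Finset.univ.filter (fun j : Fin (k + 1) => i ≤ j), S.c j) -
      ∑ j ∈ Finset.univ.filter (fun j : Fin k => i.val ≤ j.val), S.b j
  set M := Finset.univ.sup F with hM
  have hdelta : S.delta = (k : ℕ∞) + M := rfl
  rcases eq_or_ne M 0 with hM0 | hM0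
  · have hlast : S.c (Fin.last k) = 0 := by
      have h1 : (∑ j ∈ Finset.univ.filter (fun j : Fin (k + 1) => Fin.last k ≤ j), S.c j) -
          ∑ j ∈ Finset.univ.filter (fun j : Fin k => (Fin.last k).val ≤ j.val), S.b j ≤ M :=
        Finset.le_sup (f := F) (Finset.mem_univ (Fin.last k))
      have e1 : Finset.univ.filter (fun j : Fin (k + 1) => Fin.last k ≤ j) = {Fin.last k} := by
        ext j; simp [Fin.last_le_iff]
      have e2 : Finset.univ.filter (fun j : Fin k => (Fin.last k).val ≤ j.val) = ∅ := by
        ext j; simp only [Finset.mem_filter, Finset.mem_univ, true_and, Fin.val_last, Finset.notMem_empty, iff_false]; omega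
      rw [e1, e2, Finset.sum_singleton, Finset.sum_empty, tsub_zero, hM0] at h1
      exact le_antisymm h1 bot_le
    have hvw : S.v (Fin.last k) = y := by
      by_contra hc
      have := one_le_codimPt (S.spec (Fin.last k)) (fun e => hc (e.symm.trans S.last_eq))
      rw [show Algz.codimPt _ _ _ = S.c (Fin.last k) from rfl, hlast] at this
      exact absurd this (by simp)
    rcases k with _ | m
    · rw [deltaZ_zero (hZ.stableUnderSpecialization (show S.v (Fin.last 0) ⤳ y' by rw [hvw]; exact h) S.start_mem)]
      exact bot_le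
    let v' : Fin (m + 1 + 1) → Y := fun i => if i = Fin.last (m + 1) then y' else S.v i
    let w' : Fin (m + 1 + 1) → Y := fun i => if i = Fin.last (m + 1) then y' else S.w i
    let T : Algz.DSystem Z y' (m + 1) :=
      { v := v'
        w := w'
        spec := fun i => by
          simp only [v', w']
          split
          · exact specializes_rfl
          · exact S.spec i
        spec_succ := fun i => by
          simp only [v', w', Fin.castSucc_ne_last, if_false]
          split
          · next hi => exact Specializes.trans ((S.spec_succ i).trans (specializes_of_eq ((congrArg S.v hi).trans hvw))) h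
          · exact S.spec_succ i
        start_mem := by
          simp only [v']
          rw [if_neg (by simp [Fin.ext_iff])]
          exact S.start_mem
        last_eq := by simp [w'] }
    refine (deltaZ_le T).trans ?_
    unfold Algz.DSystem.delta
    refine add_le_add le_rfl (Finset.sup_mono_fun fun i _ => tsub_le_tsub (Finset.sum_le_sum fun j _ => ?_)
      (Finset.sum_le_sum fun j _ => ?_))
    · rcases eq_or_ne j (Fin.last (m + 1)) with rfl | hj
      · refine le_trans (le_of_eq ?_) bot_le
        have : ∀ a b : Y, ∀ hab : a ⤳ b, a = b → Algz.codimPt a b hab = 0 := by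
          intro a b hab e; subst e; exact codimPt_self a
        exact this _ _ _ (by simp [T, v', w'])
      · apply le_of_eq
        simp only [Algz.DSystem.c, T, v', w', if_neg hj]
    · rcases eq_or_ne j.succ (Fin.last (m + 1)) with hj | hj
      · have h1 : T.v j.succ = y' := by simp [T, v', hj]
        have h2 : T.w j.castSucc = S.w j.castSucc := by simp [T, w', Fin.castSucc_ne_last]
        have h3 : S.v j.succ = y := hj ▸ hvw
        have hb : ∀ (a a' b b' : Y) (hab : a ⤳ b) (hab' : a' ⤳ b'), a = a' → b ⤳ b' →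
            Algz.codimPt a b hab ≤ Algz.codimPt a' b' hab' := by
          intro a a' b b' hab hab' e hbb; subst e; exact codimPt_mono hab hab' hbb
        exact hb _ _ _ _ _ _ h2.symm (by rw [h1, h3]; exact h)
      · apply le_of_eq
        simp only [Algz.DSystem.b, T, v', w', if_neg hj, Fin.castSucc_ne_last, if_false]
  · let T : Algz.DSystem Z y' (k + 1) :=
      { v := Fin.snoc S.v y'
        w := Fin.snoc S.w y'
        spec := fun i => by
          refine Fin.lastCases ?_ (fun j => ?_) i
          · simp only [Fin.snoc_last]; exact specializes_rfl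
          · simp only [Fin.snoc_castSucc]; exact S.spec j
        spec_succ := fun i => by
          refine Fin.lastCases ?_ (fun j => ?_) i
          · simp only [Fin.succ_last, Fin.snoc_last, Fin.snoc_castSucc]; rw [S.last_eq]; exact h
          · rw [Fin.succ_castSucc, Fin.snoc_castSucc, Fin.snoc_castSucc]; exact S.spec_succ j
        start_mem := by
          rw [← Fin.castSucc_zero, Fin.snoc_castSucc]; exact S.start_mem
        last_eq := Fin.snoc_last _ _ }
    have hcongr : ∀ (a a' b b' : Y) (hab : a ⤳ b) (hab' : a' ⤳ b'), a = a' → b = b' →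
        Algz.codimPt a b hab = Algz.codimPt a' b' hab' := by
      intro a a' b b' hab hab' e1 e2; subst e1 e2; rfl
    have hc1 : ∀ j : Fin (k + 1), T.c j.castSucc = S.c j := fun j =>
      hcongr _ _ _ _ _ _ (Fin.snoc_castSucc (α := fun _ => Y) ..) (Fin.snoc_castSucc (α := fun _ => Y) ..)
    have hc2 : T.c (Fin.last (k + 1)) = 0 :=
      (hcongr _ y' _ y' _ specializes_rfl (Fin.snoc_last (α := fun _ => Y) ..) (Fin.snoc_last (α := fun _ => Y) ..)).trans
        (codimPt_self y')
    have hb1 : ∀ j : Fin k, T.b j.castSucc = S.b j := fun j =>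
      hcongr _ _ _ _ _ _ (Fin.snoc_castSucc (α := fun _ => Y) ..)
        ((congrArg T.v (Fin.succ_castSucc j)).trans (Fin.snoc_castSucc (α := fun _ => Y) ..))
    have hb2 : 1 ≤ T.b (Fin.last k) := by
      refine le_of_le_of_eq (one_le_codimPt h hne) (hcongr _ _ _ _ _ _ ?_ ?_).symm
      · exact (Fin.snoc_castSucc (α := fun _ => Y) ..).trans S.last_eq
      · exact (congrArg T.v (Fin.succ_last k)).trans (Fin.snoc_last (α := fun _ => Y) ..)
    refine (deltaZ_le T).trans ?_
    rw [hdelta]
    have hM1 : 1 ≤ M := Order.one_le_iff_pos.mpr (pos_iff_ne_zero.mpr hM0)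
    unfold Algz.DSystem.delta
    rw [Nat.cast_add, Nat.cast_one, add_assoc]
    refine add_le_add le_rfl ?_
    calc 1 + _ ≤ 1 + (M - 1) := add_le_add le_rfl (Finset.sup_le fun i _ => ?_)
      _ = M := add_tsub_cancel_of_le hM1
    refine Fin.lastCases ?_ (fun i => ?_) i
    · have e1 : Finset.univ.filter (fun j : Fin (k + 1 + 1) => Fin.last (k + 1) ≤ j) = {Fin.last (k + 1)} := by
        ext j; simp [Fin.last_le_iff]
      rw [e1, Finset.sum_singleton, hc2, zero_tsub]
      exact bot_le
    · have e1 : ∑ j ∈ Finset.univ.filter (fun j : Fin (k + 1 + 1) => i.castSucc ≤ j), T.c j =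
          ∑ j ∈ Finset.univ.filter (fun j : Fin (k + 1) => i ≤ j), S.c j := by
        rw [Finset.sum_filter, Finset.sum_filter, Fin.sum_univ_castSucc (n := k + 1), hc2]
        simp [hc1, Fin.castSucc_le_castSucc_iff]
      have e2 : ∑ j ∈ Finset.univ.filter (fun j : Fin (k + 1) => i.castSucc.val ≤ j.val), T.b j =
          (∑ j ∈ Finset.univ.filter (fun j : Fin k => i.val ≤ j.val), S.b j) + T.b (Fin.last k) := by
        rw [Finset.sum_filter, Finset.sum_filter, Fin.sum_univ_castSucc (n := k)]
        simp [hb1, Fin.is_le]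
      rw [e1, e2, tsub_add_eq_tsub_tsub]
      exact (tsub_le_tsub_left hb2 _).trans (tsub_le_tsub_right (Finset.le_sup (f := F) (Finset.mem_univ i)) _)

/-- A zigzag of immediate specialisations bounds the distance. -/
theorem deltaZ_le_of_zigzag [T0Space Y] {Z : Set Y} (k : ℕ) (y : Fin (k + 1) → Y) (y' : Fin k → Y)
    (h0 : y 0 ∈ Z) (hdown : ∀ i : Fin k, y' i ⤳ y i.castSucc ∧ y' i ≠ y i.castSucc ∧
      ∀ z : Y, y' i ⤳ z → z ⤳ y i.castSucc → z = y' i ∨ z = y i.castSucc)
    (hup : ∀ i : Fin k, y' i ⤳ y i.succ ∧ y' i ≠ y i.succ) : Algz.deltaZ Z (y (Fin.last k)) ≤ k := by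
  let T : Algz.DSystem Z (y (Fin.last k)) k :=
    { v := y
      w := Fin.snoc y' (y (Fin.last k))
      spec := fun i => by
        refine Fin.lastCases ?_ (fun j => ?_) i
        · rw [Fin.snoc_last]
        · rw [Fin.snoc_castSucc]; exact (hdown j).1
      spec_succ := fun i => by rw [Fin.snoc_castSucc]; exact (hup i).1
      start_mem := h0
      last_eq := Fin.snoc_last _ _ }
  have hcongr : ∀ (a a' b : Y) (hab : a ⤳ b) (hab' : a' ⤳ b), a = a' →
      Algz.codimPt a b hab = Algz.codimPt a' b hab' := by
    intro a a' b hab hab' e1; subst e1; rfl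
  have hc : ∀ j : Fin k, T.c j.castSucc ≤ 1 := fun j =>
    le_of_eq_of_le (hcongr _ _ _ _ (hdown j).1 (Fin.snoc_castSucc (α := fun _ => Y) ..))
      (codimPt_le_one_of_immediate (hdown j).1 (hdown j).2.2)
  have hcl : T.c (Fin.last k) = 0 :=
    (hcongr _ _ _ _ specializes_rfl (Fin.snoc_last (α := fun _ => Y) ..)).trans (codimPt_self _)
  have hb : ∀ j : Fin k, 1 ≤ T.b j := fun j =>
    le_of_le_of_eq (one_le_codimPt (hup j).1 (hup j).2) (hcongr _ _ _ _ _ (Fin.snoc_castSucc (α := fun _ => Y) ..)).symm
  refine (deltaZ_le T).trans ?_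
  unfold Algz.DSystem.delta
  have : (Finset.univ.sup fun i : Fin (k + 1) =>
    (∑ j ∈ Finset.univ.filter (fun j : Fin (k + 1) => i ≤ j), T.c j) -
      ∑ j ∈ Finset.univ.filter (fun j : Fin k => i.val ≤ j.val), T.b j) = 0 := by
    refine le_antisymm (Finset.sup_le fun i _ => ?_) bot_le
    refine le_of_eq (tsub_eq_zero_of_le ?_)
    rw [Finset.sum_filter, Finset.sum_filter, Fin.sum_univ_castSucc, hcl]
    simp only [ite_self, add_zero]
    refine Finset.sum_le_sum fun j _ => ?_
    by_cases hij : i.val ≤ j.val
    · rw [if_pos (show i ≤ j.castSucc from hij), if_pos hij]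
      exact (hc j).trans (hb j)
    · rw [if_neg (fun h : i ≤ j.castSucc => hij h), if_neg hij]
  rw [this, add_zero]

end Top

end Groth.Agent.H24Algz
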