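import Groth.Agent.H24Algz.GrCompare
import Groth.Prelude.Def_GrMap2
import Mathlib.RingTheory.Etale.Basic
import Mathlib.RingTheory.Kaehler.Basic

/-!
# Etale neighbourhoods of a point and the completion
-/

set_option autoImplicit false
set_option linter.style.haveILetI false

universe u

namespace Groth.Agent.H24Algz

variable {P A : Type u} [CommRing P] [CommRing A] [Algebra P A] (m : Ideal P) (ψ₁ : A →ₐ[P] P ⧸ m)

/-- The point of `A` cut out by `ψ₁`. -/
theorem map_le_ker : m.map (algebraMap P A) ≤ RingHom.ker ψ₁ := Ideal.map_le_iff_le_comap.2 fun p hp => by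
  rw [Ideal.mem_comap, RingHom.mem_ker, ψ₁.commutes]
  exact Ideal.Quotient.eq_zero_iff_mem.2 hp

theorem exists_sub_mem_ker (a : A) : ∃ p : P, a - algebraMap P A p ∈ RingHom.ker ψ₁ := by
  obtain ⟨p, hp⟩ := Ideal.Quotient.mk_surjective (ψ₁ a)
  exact ⟨p, by rw [RingHom.mem_ker, map_sub, ψ₁.commutes, ← hp]; exact sub_self _⟩

/-- An unramified point with the same residue ring is cut out by `m` modulo its square. -/
theorem ker_le_map_sup_sq [Algebra.FormallyUnramified P A] :
    RingHom.ker ψ₁ ≤ m.map (algebraMap P A) ⊔ RingHom.ker ψ₁ ^ 2 := by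
  let K := m.map (algebraMap P A) ⊔ RingHom.ker ψ₁ ^ 2
  choose p hp using exists_sub_mem_ker m ψ₁
  have hwd : ∀ (a : A) (q : P), a - algebraMap P A q ∈ RingHom.ker ψ₁ →
      Ideal.Quotient.mk K (a - algebraMap P A (p a)) = Ideal.Quotient.mk K (a - algebraMap P A q) := by
    intro a q hq
    rw [Ideal.Quotient.mk_eq_mk_iff_sub_mem, sub_sub_sub_cancel_left, ← map_sub]
    refine Ideal.mem_sup_left (Ideal.mem_map_of_mem _ ?_)
    have h := sub_mem (hp a) hq
    rw [sub_sub_sub_cancel_left, ← map_sub, RingHom.mem_ker, ψ₁.commutes] at h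
    exact Ideal.Quotient.eq_zero_iff_mem.1 h
  let D : Derivation P A (A ⧸ K) := Derivation.mk'
    { toFun := fun a => Ideal.Quotient.mk K (a - algebraMap P A (p a))
      map_add' := fun a b => by
        rw [← map_add, hwd (a + b) (p a + p b) (by rw [map_add, add_sub_add_comm]; exact add_mem (hp a) (hp b))]
        rw [map_add (algebraMap P A), add_sub_add_comm]
      map_smul' := fun r a => by
        rw [hwd (r • a) (r * p a) (by
          rw [Algebra.smul_def, map_mul, ← mul_sub]
          exact Ideal.mul_mem_left _ _ (hp a)), RingHom.id_apply, Algebra.smul_def, map_mul, ← mul_sub, map_mul,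
          Algebra.smul_def]
        rfl }
    fun a b => by
      show Ideal.Quotient.mk K (a * b - algebraMap P A (p (a * b))) =
        a • Ideal.Quotient.mk K (b - algebraMap P A (p b)) + b • Ideal.Quotient.mk K (a - algebraMap P A (p a))
      rw [hwd (a * b) (p a * p b) (by
        rw [map_mul, show a * b - algebraMap P A (p a) * algebraMap P A (p b) =
          a * (b - algebraMap P A (p b)) + algebraMap P A (p b) * (a - algebraMap P A (p a)) by ring]
        exact add_mem (Ideal.mul_mem_left _ _ (hp b)) (Ideal.mul_mem_left _ _ (hp a)))]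
      show _ = Ideal.Quotient.mk K (a * _) + Ideal.Quotient.mk K (b * _)
      rw [← map_add, Ideal.Quotient.mk_eq_mk_iff_sub_mem]
      refine Ideal.mem_sup_right ?_
      rw [show a * b - algebraMap P A (p a * p b) -
          (a * (b - algebraMap P A (p b)) + b * (a - algebraMap P A (p a))) =
          -((a - algebraMap P A (p a)) * (b - algebraMap P A (p b))) by rw [map_mul]; ring, pow_two]
      exact neg_mem (Ideal.mul_mem_mul (hp a) (hp b))
  intro a ha
  have hD : D a = 0 := by
    rw [← D.liftKaehlerDifferential_comp_D a, Subsingleton.elim (KaehlerDifferential.D P A a) 0, map_zero]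
  have h0 : Ideal.Quotient.mk K (a - algebraMap P A 0) = 0 := by
    rw [← hwd a 0 (by rw [map_zero, sub_zero]; exact ha)]
    exact hD
  rwa [map_zero, sub_zero, Ideal.Quotient.eq_zero_iff_mem] at h0

/-- Approximation of the elements of `A` by elements of `P`. -/
theorem exists_approx_point [Algebra.FormallyUnramified P A] (n : ℕ) (a : A) :
    ∃ p : P, a - algebraMap P A p ∈ RingHom.ker ψ₁ ^ n :=
  exists_approx (algebraMap P A) m _ (map_le_ker m ψ₁) (ker_le_map_sup_sq m ψ₁) (exists_sub_mem_ker m ψ₁) n a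

theorem algebraMap_mem_ker_pow (n : ℕ) {p : P} (hp : p ∈ m ^ n) :
    algebraMap P A p ∈ RingHom.ker ψ₁ ^ n := by
  refine Ideal.pow_right_mono (map_le_ker m ψ₁) n ?_
  rw [← Ideal.map_pow]
  exact Ideal.mem_map_of_mem _ hp

/-- A map to a truncation over the point kills the corresponding power of the point. -/
theorem ker_pow_le {n : ℕ} (χ : A →ₐ[P] P ⧸ m ^ (n + 1))
    (hχ : (Ideal.Quotient.factorₐ P (Ideal.pow_le_self n.succ_ne_zero)).comp χ = ψ₁) :
    RingHom.ker ψ₁ ^ (n + 1) ≤ RingHom.ker χ := by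
  have h1 : (RingHom.ker ψ₁).map χ ≤ m.map (Ideal.Quotient.mk (m ^ (n + 1))) := Ideal.map_le_iff_le_comap.2 fun a ha => by
    obtain ⟨p, hp⟩ := Ideal.Quotient.mk_surjective (χ a)
    rw [RingHom.mem_ker, ← hχ, AlgHom.comp_apply, ← hp] at ha
    rw [Ideal.mem_comap, ← hp]
    exact Ideal.mem_map_of_mem _ (Ideal.Quotient.eq_zero_iff_mem.1 ha)
  intro a ha
  have h2 := Ideal.mem_map_of_mem χ ha
  rw [Ideal.map_pow] at h2
  have h3 := Ideal.pow_right_mono h1 (n + 1) h2
  rw [← Ideal.map_pow, Ideal.map_quotient_self, Ideal.mem_bot] at h3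
  exact h3

/-- Powers of the point contract to the powers of `m`. -/
theorem mem_pow_of_algebraMap_mem [Algebra.FormallySmooth P A] (n : ℕ) {p : P}
    (hp : algebraMap P A p ∈ RingHom.ker ψ₁ ^ n) : p ∈ m ^ n := by
  have hex : ∀ n : ℕ, ∃ χ : A →ₐ[P] P ⧸ m ^ (n + 1),
      (Ideal.Quotient.factorₐ P (Ideal.pow_le_self n.succ_ne_zero)).comp χ = ψ₁ := by
    intro n
    induction n with
    | zero =>
      refine ⟨(Ideal.Quotient.factorₐ P (pow_one m).ge).comp ψ₁, AlgHom.ext fun a => ?_⟩
      obtain ⟨q, hq⟩ := Ideal.Quotient.mk_surjective (ψ₁ a)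
      rw [AlgHom.comp_apply, AlgHom.comp_apply, ← hq]
      rfl
    | succ n ih =>
      obtain ⟨χ, hχ⟩ := ih
      let π := Ideal.Quotient.factorₐ P (Ideal.pow_le_pow_right (I := m) (n + 1).le_succ)
      have hnil : IsNilpotent (RingHom.ker π) := by
        refine ⟨2, eq_bot_iff.2 ?_⟩
        rw [pow_two]
        refine Ideal.mul_le.2 fun a ha b hb => ?_
        obtain ⟨a, rfl⟩ := Ideal.Quotient.mk_surjective a
        obtain ⟨b, rfl⟩ := Ideal.Quotient.mk_surjective b
        rw [Ideal.mem_bot, ← map_mul, Ideal.Quotient.eq_zero_iff_mem]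
        refine Ideal.pow_le_pow_right (show n + 1 + 1 ≤ n + 1 + (n + 1) by omega) ?_
        rw [pow_add]
        exact Ideal.mul_mem_mul (Ideal.Quotient.eq_zero_iff_mem.1 ha) (Ideal.Quotient.eq_zero_iff_mem.1 hb)
      have hsurj : Function.Surjective π :=
        Ideal.Quotient.factor_surjective (Ideal.pow_le_pow_right (I := m) (n + 1).le_succ)
      refine ⟨Algebra.FormallySmooth.liftOfSurjective χ π hsurj hnil, AlgHom.ext fun a => ?_⟩
      rw [← hχ, AlgHom.comp_apply, AlgHom.comp_apply,
        ← Algebra.FormallySmooth.liftOfSurjective_apply χ π hsurj hnil a]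
      obtain ⟨q, hq⟩ := Ideal.Quotient.mk_surjective
        (Algebra.FormallySmooth.liftOfSurjective χ π hsurj hnil a)
      rw [← hq]
      rfl
  cases n with
  | zero => rw [pow_zero, Ideal.one_eq_top]; trivial
  | succ n =>
    obtain ⟨χ, hχ⟩ := hex n
    have h1 := ker_pow_le m ψ₁ χ hχ hp
    rw [RingHom.mem_ker, χ.commutes] at h1
    exact Ideal.Quotient.eq_zero_iff_mem.1 h1

/-- The map to the completion determined by approximation. -/
theorem exists_sigma [Algebra.FormallyEtale P A] :
    ∃ σ : A →ₐ[P] AdicCompletion m P, ∀ (n : ℕ) (a : A) (p : P), a - algebraMap P A p ∈ RingHom.ker ψ₁ ^ n →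
      AdicCompletion.evalₐ m n (σ a) = Ideal.Quotient.mk (m ^ n) p := by
  choose q hq using exists_approx_point m ψ₁
  have hdet : ∀ (n : ℕ) (a : A) (p : P), a - algebraMap P A p ∈ RingHom.ker ψ₁ ^ n →
      (Ideal.Quotient.mk (m ^ n) (q n a) : P ⧸ m ^ n) = Ideal.Quotient.mk (m ^ n) p := by
    intro n a p hp
    rw [Ideal.Quotient.mk_eq_mk_iff_sub_mem]
    refine mem_pow_of_algebraMap_mem m ψ₁ n ?_
    rw [map_sub, ← sub_sub_sub_cancel_left]
    exact sub_mem hp (hq n a)
  let f : ∀ n, A →ₐ[P] P ⧸ m ^ n := fun n =>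
    { toFun := fun a => Ideal.Quotient.mk (m ^ n) (q n a)
      map_one' := by rw [hdet n 1 1 (by rw [map_one, sub_self]; exact zero_mem _), map_one]
      map_mul' := fun a b => by
        rw [← map_mul]
        refine hdet n (a * b) (q n a * q n b) ?_
        rw [map_mul, show a * b - algebraMap P A (q n a) * algebraMap P A (q n b) =
          a * (b - algebraMap P A (q n b)) + algebraMap P A (q n b) * (a - algebraMap P A (q n a)) by ring]
        exact add_mem (Ideal.mul_mem_left _ _ (hq n b)) (Ideal.mul_mem_left _ _ (hq n a))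
      map_zero' := by rw [hdet n 0 0 (by rw [map_zero, sub_self]; exact zero_mem _), map_zero]
      map_add' := fun a b => by
        rw [← map_add]
        refine hdet n (a + b) (q n a + q n b) ?_
        rw [map_add, add_sub_add_comm]
        exact add_mem (hq n a) (hq n b)
      commutes' := fun r => hdet n _ r (by rw [sub_self]; exact zero_mem _) }
  refine ⟨AdicCompletion.liftAlgHom m f fun {i j} hle => AlgHom.ext fun a =>
    (hdet i a (q j a) (Ideal.pow_le_pow_right hle (hq j a))).symm, fun n a p hp => ?_⟩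
  rw [AdicCompletion.evalₐ_liftAlgHom]
  exact hdet n a p hp

/-- The map to the completion detects the powers of the point. -/
theorem evalₐ_sigma_eq_zero_iff [Algebra.FormallyEtale P A] {σ : A →ₐ[P] AdicCompletion m P}
    (hσ : ∀ (n : ℕ) (a : A) (p : P), a - algebraMap P A p ∈ RingHom.ker ψ₁ ^ n →
      AdicCompletion.evalₐ m n (σ a) = Ideal.Quotient.mk (m ^ n) p) (n : ℕ) (a : A) :
    AdicCompletion.evalₐ m n (σ a) = 0 ↔ a ∈ RingHom.ker ψ₁ ^ n := by
  obtain ⟨p, hp⟩ := exists_approx_point m ψ₁ n a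
  rw [hσ n a p hp, Ideal.Quotient.eq_zero_iff_mem]
  refine ⟨fun h => ?_, fun h => mem_pow_of_algebraMap_mem m ψ₁ n ?_⟩
  · rw [← sub_add_cancel a (algebraMap P A p)]
    exact add_mem hp (algebraMap_mem_ker_pow m ψ₁ n h)
  · rw [← sub_sub_cancel a (algebraMap P A p)]
    exact sub_mem h hp

end Groth.Agent.H24Algz
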