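import Groth.Agent.H22Alg.DimFunLft
import Groth.Agent.H24Algz.DeltaZ
import Groth.Agent.H8Props.FieldDimFibre
import Groth.Prelude.Def_Algz

/-!
# The distance function under morphisms of finite type
-/

set_option autoImplicit false
set_option linter.style.haveILetI false

universe u

open CategoryTheory CategoryTheory.Limits AlgebraicGeometry Topology
open Groth.Agent.H7Flat (evKer evKer_eq trdeg_residue_eq)

namespace Groth.Agent.H24Algz.FiniteTypeDelta

open Groth.Agent

/-- The codimension of a specialisation, read off on an affine open containing both points. -/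
theorem codimPt_eq_height {X : Scheme.{u}} {V : X.Opens} (hV : IsAffineOpen V)
    {x y : X} (h : x ⤳ y) (hx : x ∈ V) (hy : y ∈ V) :
    Algz.codimPt x y h = ((evKer V y hy).map (Ideal.Quotient.mk (evKer V x hx))).height := by
  set P := evKer V x hx
  set p := evKer V y hy
  haveI hPp : P.IsPrime := RingHom.ker_isPrime _
  haveI hpp : p.IsPrime := RingHom.ker_isPrime _
  have hle : P ≤ p := H7Flat.evKer_le_of_specializes V h hx hy
  haveI : (p.map (Ideal.Quotient.mk P)).IsPrime :=
    Ideal.map_isPrime_of_surjective Ideal.Quotient.mk_surjective (by rwa [Ideal.mk_ker])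
  let g : PrimeSpectrum (Γ(X, V) ⧸ P) → X := fun J => hV.fromSpec (H02CA.quotEmbedding P J)
  have hg : ∀ J J', g J ⤳ g J' ↔ J ≤ J' := fun J J' =>
    (hV.fromSpec.isOpenEmbedding.isInducing.specializes_iff.trans (PrimeSpectrum.le_iff_specializes _ _).symm).trans
      (H02CA.quotEmbedding P).le_iff_le
  have hbot : g ⟨⊥, Ideal.isPrime_bot⟩ = x := by
    refine Eq.trans ?_ (hV.fromSpec_primeIdealOf ⟨x, hx⟩)
    refine congrArg hV.fromSpec (PrimeSpectrum.ext ?_)
    show Ideal.comap (Ideal.Quotient.mk P) ⊥ = _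
    rw [← RingHom.ker_eq_comap_bot, Ideal.mk_ker]
    exact evKer_eq hV x hx
  let q : PrimeSpectrum (Γ(X, V) ⧸ P) := ⟨p.map (Ideal.Quotient.mk P), inferInstance⟩
  have hq : g q = y := by
    refine Eq.trans ?_ (hV.fromSpec_primeIdealOf ⟨y, hy⟩)
    refine congrArg hV.fromSpec (PrimeSpectrum.ext ?_)
    show Ideal.comap (Ideal.Quotient.mk P) (p.map (Ideal.Quotient.mk P)) = _
    rw [Ideal.comap_map_of_surjective' _ Ideal.Quotient.mk_surjective, Ideal.mk_ker, sup_eq_left.mpr hle]
    exact evKer_eq hV y hy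
  have hbetween : ∀ z : X, x ⤳ z → z ⤳ y → ∃ K, g K = z := by
    intro z hJ hJ'
    obtain ⟨K₀, rfl⟩ : z ∈ Set.range hV.fromSpec :=
      hJ'.mem_open hV.fromSpec.isOpenEmbedding.isOpen_range (by rw [hV.range_fromSpec]; exact hy)
    have h1 : H02CA.quotEmbedding P ⟨⊥, Ideal.isPrime_bot⟩ ≤ K₀ :=
      (PrimeSpectrum.le_iff_specializes _ _).mpr (hV.fromSpec.isOpenEmbedding.isInducing.specializes_iff.mp
        (show g ⟨⊥, Ideal.isPrime_bot⟩ ⤳ _ by rw [hbot]; exact hJ))
    obtain ⟨K, rfl⟩ := (H02CA.mem_range_quotEmbedding P).mpr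
      (le_trans ((H02CA.mem_range_quotEmbedding P).mp ⟨⟨⊥, Ideal.isPrime_bot⟩, rfl⟩) h1)
    exact ⟨K, rfl⟩
  rw [show (p.map (Ideal.Quotient.mk P)).height = Order.height q from PrimeSpectrum.height_eq_orderHeight q]
  refine le_antisymm (codimPt_le h fun s hh hl => ?_) (Order.height_le fun t ht => ?_)
  · have hmem : ∀ i, ∃ K, g K = Specialization.ofEquiv (s i) := fun i =>
      hbetween _ (show s i ≤ Specialization.toEquiv x from hl ▸ s.monotone (Fin.le_last i))
        (show Specialization.toEquiv y ≤ s i from le_trans hh (s.monotone (Fin.zero_le i)))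
    choose K hK using hmem
    have hKlt : ∀ i j : Fin (s.length + 1), i < j → K j < K i := by
      intro i j hij
      have h1 := s.strictMono hij
      refine lt_of_le_not_ge ((hg _ _).mp ?_) fun h' => ?_
      · rw [hK, hK]; exact h1.le
      · have h3 : g (K i) ⤳ g (K j) := (hg _ _).mpr h'
        rw [hK, hK] at h3
        exact not_le_of_gt h1 h3
    let t : LTSeries (PrimeSpectrum (Γ(X, V) ⧸ P)) := LTSeries.mk s.length (fun i => K (Fin.rev i))
      fun i j hij => hKlt _ _ (Fin.rev_lt_rev.mpr hij)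
    have hlast : t.last ≤ q := by
      show K (Fin.rev (Fin.last _)) ≤ q
      rw [Fin.rev_last, ← hg, hK, hq]
      exact hh
    exact Order.length_le_height (p := t) hlast
  · obtain ⟨t', ht', hhead, hlen⟩ : ∃ t' : LTSeries (PrimeSpectrum (Γ(X, V) ⧸ P)),
        t'.last = q ∧ t'.head = ⟨⊥, Ideal.isPrime_bot⟩ ∧ t.length ≤ t'.length := by
      by_cases hh : t.head = ⟨⊥, Ideal.isPrime_bot⟩
      · exact ⟨t, ht, hh, le_rfl⟩
      · refine ⟨t.cons ⟨⊥, Ideal.isPrime_bot⟩ (lt_of_le_of_ne (show (⊥ : Ideal _) ≤ _ from bot_le) (fun e => hh (PrimeSpectrum.ext e.symm))), ?_, ?_, ?_⟩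
        · rw [RelSeries.last_cons]; exact ht
        · rw [RelSeries.head_cons]
        · simp
    refine le_trans (Nat.cast_le.mpr hlen) ?_
    let s : LTSeries (Specialization X) := LTSeries.mk t'.length
      (fun i => Specialization.toEquiv (g (t' (Fin.rev i)))) fun i j hij => by
        have h1 : t' (Fin.rev j) < t' (Fin.rev i) := t'.strictMono (Fin.rev_lt_rev.mpr hij)
        exact lt_of_le_not_ge ((hg _ _).mpr h1.le) fun h' => not_le_of_gt h1 ((hg _ _).mp h')
    refine le_trans (le_of_eq ?_) (le_codimPt h s ?_ ?_)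
    · rfl
    · show g (t' (Fin.rev 0)) ⤳ y
      rw [Fin.rev_zero, ← hq, hg]
      exact le_of_eq ht'
    · show Specialization.toEquiv (g (t' (Fin.rev (Fin.last _)))) = _
      rw [Fin.rev_last]
      refine congrArg Specialization.toEquiv ?_
      rw [← hbot]
      exact congrArg g hhead

variable {X S : Scheme.{u}} [IsLocallyNoetherian S] (f : X ⟶ S) [LocallyOfFiniteType f]

/-- The dimension formula for a specialisation over a universally catenary base. -/
theorem codimPt_formula (hS : ∀ s : S, CAlg.IsUniversallyCatenary (S.presheaf.stalk s)) {x y : X} (hxy : x ⤳ y)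
    (a b : ℕ)
    (ha : @Algebra.trdeg (S.residueField (f.base x)) (X.residueField x) _ _ (f.residueFieldMap x).hom.toAlgebra = a)
    (hb : @Algebra.trdeg (S.residueField (f.base y)) (X.residueField y) _ _ (f.residueFieldMap y).hom.toAlgebra = b) :
    ∃ k m : ℕ, Algz.codimPt x y hxy = k ∧ Algz.codimPt (f x) (f y) (hxy.map f.continuous) = m ∧
      k + b = m + a := by
  haveI : IsLocallyNoetherian X := LocallyOfFiniteType.isLocallyNoetherian f
  obtain ⟨V, hV, hyV, -⟩ := exists_isAffineOpen_mem_and_subset (x := f y) (U := ⊤) trivial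
  obtain ⟨U, hU, hyU, hle⟩ := exists_isAffineOpen_mem_and_subset (x := y) (U := f ⁻¹ᵁ V) hyV
  have hxU : x ∈ U := hxy.mem_open U.2 hyU
  have hfxy : f x ⤳ f y := hxy.map f.continuous
  obtain ⟨hPQx, htrx⟩ := trdeg_residue_eq f hV hU hle x hxU
  obtain ⟨hPQy, htry⟩ := trdeg_residue_eq f hV hU hle y hyU
  obtain ⟨m, hm, -, -, -⟩ := H22Alg.DimFunLft.height_evKer_spec hV hfxy (hle hxU) hyV
  obtain ⟨k, hk, -, -, -⟩ := H22Alg.DimFunLft.height_evKer_spec hU hxy hxU hyU
  refine ⟨k, m, (codimPt_eq_height hU hxy hxU hyU).trans hk, (codimPt_eq_height hV hfxy (hle hxU) hyV).trans hm, ?_⟩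
  letI := (f.appLE V U hle).hom.toAlgebra
  haveI hPx : (evKer U x hxU).LiesOver (evKer V (f x) (hle hxU)) := ⟨by
    ext r
    show S.evaluation V (f x) _ r = 0 ↔ X.evaluation U x hxU (f.appLE V U hle r) = 0
    rw [← H7Flat.evaluation_appLE f hle x hxU r]
    exact ((map_eq_zero_iff _ (f.residueFieldMap x).hom.injective)).symm⟩
  haveI hPy : (evKer U y hyU).LiesOver (evKer V (f y) hyV) := ⟨by
    ext r
    show S.evaluation V (f y) _ r = 0 ↔ X.evaluation U y hyU (f.appLE V U hle r) = 0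
    rw [← H7Flat.evaluation_appLE f hle y hyU r]
    exact ((map_eq_zero_iff _ (f.residueFieldMap y).hom.injective)).symm⟩
  haveI : Algebra.FiniteType Γ(S, V) Γ(X, U) := RingHom.finiteType_algebraMap.1 (f.finiteType_appLE hV hU hle)
  set P := evKer V (f x) (hle hxU)
  set Q := evKer U x hxU
  set p := evKer V (f y) hyV
  set q := evKer U y hyU
  haveI : P.IsPrime := RingHom.ker_isPrime _
  haveI : Q.IsPrime := RingHom.ker_isPrime _
  haveI : p.IsPrime := RingHom.ker_isPrime _
  haveI : q.IsPrime := RingHom.ker_isPrime _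
  have hPp : P ≤ p := H7Flat.evKer_le_of_specializes V hfxy _ hyV
  have hQq : Q ≤ q := H7Flat.evKer_le_of_specializes U hxy hxU hyU
  have hcat : CAlg.IsUniversallyCatenary (Γ(S, V) ⧸ P) := by
    obtain ⟨hN, hR⟩ := H22Alg.DimFunLft.isUniversallyCatenary_sections hS hV
    refine ⟨inferInstance, fun B _ _ hB => ?_⟩
    letI : Algebra Γ(S, V) B := Algebra.compHom B (Ideal.Quotient.mk P)
    haveI : IsScalarTower Γ(S, V) (Γ(S, V) ⧸ P) B := IsScalarTower.of_algebraMap_eq fun _ => rfl
    exact hR B (Algebra.FiniteType.trans (S := Γ(S, V) ⧸ P) inferInstance hB)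
  haveI : FaithfulSMul (Γ(S, V) ⧸ P) (Γ(X, U) ⧸ Q) := (faithfulSMul_iff_algebraMap_injective _ _).2
    ((injective_iff_map_eq_zero _).2 fun r hr => by
      obtain ⟨r, rfl⟩ := Ideal.Quotient.mk_surjective r
      rw [Ideal.Quotient.eq_zero_iff_mem, Ideal.LiesOver.over (p := P) (P := Q)]
      exact (Ideal.Quotient.eq_zero_iff_mem (I := Q)).1 hr)
  haveI : Algebra.FiniteType (Γ(S, V) ⧸ P) (Γ(X, U) ⧸ Q) :=
    haveI : Algebra.FiniteType Γ(S, V) (Γ(X, U) ⧸ Q) := Algebra.FiniteType.trans (S := Γ(X, U)) inferInstance inferInstance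
    Algebra.FiniteType.of_restrictScalars_finiteType Γ(S, V) (Γ(S, V) ⧸ P) (Γ(X, U) ⧸ Q)
  haveI : (p.map (Ideal.Quotient.mk P)).IsPrime :=
    Ideal.map_isPrime_of_surjective Ideal.Quotient.mk_surjective (by rwa [Ideal.mk_ker])
  haveI : (q.map (Ideal.Quotient.mk Q)).IsPrime :=
    Ideal.map_isPrime_of_surjective Ideal.Quotient.mk_surjective (by rwa [Ideal.mk_ker])
  have hpc : (p.map (Ideal.Quotient.mk P)).comap (Ideal.Quotient.mk P) = p := by
    rw [Ideal.comap_map_of_surjective' _ Ideal.Quotient.mk_surjective, Ideal.mk_ker, sup_eq_left.mpr hPp]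
  have hqc : (q.map (Ideal.Quotient.mk Q)).comap (Ideal.Quotient.mk Q) = q := by
    rw [Ideal.comap_map_of_surjective' _ Ideal.Quotient.mk_surjective, Ideal.mk_ker, sup_eq_left.mpr hQq]
  haveI : (q.map (Ideal.Quotient.mk Q)).LiesOver (p.map (Ideal.Quotient.mk P)) := ⟨by
    ext r
    obtain ⟨r, rfl⟩ := Ideal.Quotient.mk_surjective r
    show r ∈ (p.map (Ideal.Quotient.mk P)).comap (Ideal.Quotient.mk P) ↔
      algebraMap Γ(S, V) Γ(X, U) r ∈ (q.map (Ideal.Quotient.mk Q)).comap (Ideal.Quotient.mk Q)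
    rw [hpc, hqc, Ideal.LiesOver.over (p := p) (P := q)]
    rfl⟩
  have hform := H22Alg.DimFormula.eq_of_isUniversallyCatenary (Γ(S, V) ⧸ P) hcat (Γ(X, U) ⧸ Q)
    (p.map (Ideal.Quotient.mk P)) (q.map (Ideal.Quotient.mk Q))
  let e₁ : (Γ(S, V) ⧸ P) ⧸ p.map (Ideal.Quotient.mk P) ≃+* Γ(S, V) ⧸ p := DoubleQuot.quotQuotEquivQuotOfLE hPp
  let e₂ : (Γ(X, U) ⧸ Q) ⧸ q.map (Ideal.Quotient.mk Q) ≃+* Γ(X, U) ⧸ q := DoubleQuot.quotQuotEquivQuotOfLE hQq
  have htr : Algebra.trdeg ((Γ(S, V) ⧸ P) ⧸ p.map (Ideal.Quotient.mk P)) ((Γ(X, U) ⧸ Q) ⧸ q.map (Ideal.Quotient.mk Q)) =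
      Algebra.trdeg (Γ(S, V) ⧸ p) (Γ(X, U) ⧸ q) := by
    haveI : FaithfulSMul (Γ(S, V) ⧸ p) (Γ(X, U) ⧸ q) := (faithfulSMul_iff_algebraMap_injective _ _).2
      ((injective_iff_map_eq_zero _).2 fun r hr => by
        obtain ⟨r, rfl⟩ := Ideal.Quotient.mk_surjective r
        rw [Ideal.Quotient.eq_zero_iff_mem, Ideal.LiesOver.over (p := p) (P := q)]
        exact (Ideal.Quotient.eq_zero_iff_mem (I := q)).1 hr)
    refine H22Alg.DimFunLft.trdeg_congr e₁ e₂ fun r => ?_
    obtain ⟨r, rfl⟩ := Ideal.Quotient.mk_surjective r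
    obtain ⟨r, rfl⟩ := Ideal.Quotient.mk_surjective r
    rfl
  have hta : Algebra.trdeg (Γ(S, V) ⧸ P) (Γ(X, U) ⧸ Q) = a := by rw [← ha]; exact htrx.symm
  have htb : Algebra.trdeg (Γ(S, V) ⧸ p) (Γ(X, U) ⧸ q) = b := by rw [← hb]; exact htry.symm
  rw [hm, hk, htr, hta, htb] at hform
  rw [Cardinal.ofENat_nat, Cardinal.ofENat_nat] at hform
  exact_mod_cast hform

omit [IsLocallyNoetherian S] in
theorem exists_trdeg_le (e : ℕ) (hfib : ∀ y : S, topologicalKrullDim ↑(f.fiber y) ≤ (e : WithBot ℕ∞)) (x : X) :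
    ∃ n : ℕ, n ≤ e ∧
      @Algebra.trdeg (S.residueField (f.base x)) (X.residueField x) _ _ (f.residueFieldMap x).hom.toAlgebra = n := by
  obtain ⟨n, hn, hn'⟩ := H8Props.FieldDim.exists_trdeg_fiber f (f.asFiber x)
  rw [f.fiberι_asFiber x] at hn'
  refine ⟨n, ?_, hn'⟩
  have h : H8Props.FieldDim.cdim (f.asFiber x) ≤ topologicalKrullDim ↑(f.fiber (f x)) :=
    Topology.IsInducing.subtypeVal.topologicalKrullDim_le
  rw [hn] at h
  exact_mod_cast h.trans (hfib (f x))

theorem filter_castSucc {k : ℕ} (i : Fin k) :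
    Finset.univ.filter (fun j : Fin (k + 1) => i.castSucc ≤ j) =
      insert i.castSucc (Finset.univ.filter fun j => i.succ ≤ j) := by
  ext j
  simp only [Finset.mem_filter, Finset.mem_univ, true_and, Finset.mem_insert, Fin.le_def, Fin.ext_iff,
    Fin.val_castSucc, Fin.val_succ]
  omega

theorem filter_val_castSucc {k : ℕ} (i : Fin k) :
    Finset.univ.filter (fun j : Fin k => i.castSucc.val ≤ j.val) =
      insert i (Finset.univ.filter fun j : Fin k => i.succ.val ≤ j.val) := by
  ext j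
  simp only [Finset.mem_filter, Finset.mem_univ, true_and, Finset.mem_insert, Fin.ext_iff,
    Fin.val_castSucc, Fin.val_succ]
  omega

theorem telescope {k : ℕ} (tv tw : Fin (k + 1) → ℤ) (i : Fin (k + 1)) :
    (∑ j ∈ Finset.univ.filter (fun j : Fin (k + 1) => i ≤ j), (tw j - tv j)) -
      (∑ j ∈ Finset.univ.filter (fun j : Fin k => i.val ≤ j.val), (tw j.castSucc - tv j.succ)) =
      tw (Fin.last k) - tv i := by
  induction i using Fin.reverseInduction with
  | last =>
    have h1 : Finset.univ.filter (fun j : Fin (k + 1) => Fin.last k ≤ j) = {Fin.last k} := by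
      ext j; simp [Fin.last_le_iff]
    have h2 : Finset.univ.filter (fun j : Fin k => (Fin.last k).val ≤ j.val) = ∅ := by
      ext j; simp
    rw [h1, h2]; simp
  | cast i ih =>
    rw [filter_castSucc, filter_val_castSucc,
      Finset.sum_insert (by simp [Fin.le_def]), Finset.sum_insert (by simp)]
    linarith

theorem deltaZ_le_preimage_add (hS : ∀ s : S, CAlg.IsUniversallyCatenary (S.presheaf.stalk s)) (Z : Set S) (e : ℕ)
    (hfib : ∀ y : S, topologicalKrullDim ↑(f.fiber y) ≤ (e : WithBot ℕ∞)) (x : X) (t : ℕ)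
    (ht : @Algebra.trdeg (S.residueField (f.base x)) (X.residueField x) _ _ (f.residueFieldMap x).hom.toAlgebra = t) :
    Algz.deltaZ Z (f.base x) + t ≤ Algz.deltaZ (f.base ⁻¹' Z) x + e := by
  cases hn : Algz.deltaZ (f.base ⁻¹' Z) x with
  | top => simp
  | coe n =>
    obtain ⟨k, T, hT⟩ := exists_delta_eq hn
    choose τ hτe hτ using exists_trdeg_le f e hfib
    have hτt : τ x = t := by exact_mod_cast (hτ x).symm.trans ht
    choose C c hC hc hCc using fun i => codimPt_formula f hS (T.spec i) (τ (T.w i)) (τ (T.v i)) (hτ _) (hτ _)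
    choose B b hB hb hBb using fun i => codimPt_formula f hS (T.spec_succ i) (τ (T.w i.castSucc)) (τ (T.v i.succ)) (hτ _) (hτ _)
    let T' : Algz.DSystem Z (f.base x) k :=
      { v := fun i => f (T.v i)
        w := fun i => f (T.w i)
        spec := fun i => (T.spec i).map f.continuous
        spec_succ := fun i => (T.spec_succ i).map f.continuous
        start_mem := T.start_mem
        last_eq := congrArg f T.last_eq }
    have hterm : ∀ i : Fin (k + 1),
        (∑ j ∈ Finset.univ.filter (fun j : Fin (k + 1) => i ≤ j), c j) -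
          (∑ j ∈ Finset.univ.filter (fun j : Fin k => i.val ≤ j.val), b j) + t ≤
        ((∑ j ∈ Finset.univ.filter (fun j : Fin (k + 1) => i ≤ j), C j) -
          (∑ j ∈ Finset.univ.filter (fun j : Fin k => i.val ≤ j.val), B j)) + e := by
      intro i
      have htel := telescope (fun j => (τ (T.v j) : ℤ)) (fun j => (τ (T.w j) : ℤ)) i
      have h1 : ∀ j, (τ (T.w j) : ℤ) - τ (T.v j) = (C j : ℤ) - c j := fun j => by
        have := hCc j; omega
      have h2 : ∀ j : Fin k, (τ (T.w j.castSucc) : ℤ) - τ (T.v j.succ) = (B j : ℤ) - b j := fun j => by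
        have := hBb j; omega
      simp only [h1, h2, Finset.sum_sub_distrib] at htel
      simp only [T.last_eq, hτt] at htel
      have h3 : τ (T.v i) ≤ e := hτe _
      have h4 : t ≤ e := hτt ▸ hτe x
      simp only [← Nat.cast_sum] at htel
      omega
    have h1 : T.delta = (n : ℕ∞) := hT
    have h2 : T'.delta + t ≤ (n : ℕ∞) + e := by
      obtain ⟨i, -, hi⟩ := Finset.exists_mem_eq_sup (Finset.univ : Finset (Fin (k + 1))) Finset.univ_nonempty
        fun i : Fin (k + 1) =>
          (∑ j ∈ Finset.univ.filter (fun j : Fin (k + 1) => i ≤ j), T'.c j) -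
            ∑ j ∈ Finset.univ.filter (fun j : Fin k => i.val ≤ j.val), T'.b j
      have h3 : (k : ℕ∞) + (((∑ j ∈ Finset.univ.filter (fun j : Fin (k + 1) => i ≤ j), T.c j) -
          ∑ j ∈ Finset.univ.filter (fun j : Fin k => i.val ≤ j.val), T.b j)) ≤ n := by
        rw [← h1]
        exact add_le_add le_rfl (Finset.le_sup (f := fun i : Fin (k + 1) =>
          (∑ j ∈ Finset.univ.filter (fun j : Fin (k + 1) => i ≤ j), T.c j) -
            ∑ j ∈ Finset.univ.filter (fun j : Fin k => i.val ≤ j.val), T.b j) (Finset.mem_univ i))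
      simp only [Algz.DSystem.c, Algz.DSystem.b, hC, hB] at h3
      rw [← Nat.cast_sum, ← Nat.cast_sum, ← ENat.natCast_sub, ← Nat.cast_add, Nat.cast_le] at h3
      unfold Algz.DSystem.delta
      rw [hi]
      simp only [Algz.DSystem.c, Algz.DSystem.b, T', hc, hb]
      rw [← Nat.cast_sum, ← Nat.cast_sum, ← ENat.natCast_sub]
      norm_cast
      have h5 := hterm i
      omega
    exact (add_le_add (deltaZ_le T') le_rfl).trans h2

end Groth.Agent.H24Algz.FiniteTypeDelta
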