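import Groth.Agent.H29Fitt.FreeLocal
import Mathlib.AlgebraicGeometry.Modules.Tilde
import Mathlib.RingTheory.Localization.Module

/-! Generators of a module from generators of its sheaf over an open cover. -/

set_option autoImplicit false
set_option linter.style.haveILetI false

universe u

open CategoryTheory CategoryTheory.Limits AlgebraicGeometry Opposite TopologicalSpace

namespace Groth.Agent.H24Algz

/-- Over an affine open inside `U`, a quotient of a free module of rank `n` has `n` spanning sections. -/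
theorem exists_span_sections {X : Scheme.{u}} (F : X.Modules) [F.IsQuasicoherent] {U : X.Opens} {n : ℕ}
    (π : FlatMod.freeMod (↑U) n ⟶ F.restrict U.ι) [Epi π] {V : X.Opens} (hV : IsAffineOpen V) (hle : V ≤ U) :
    ∃ s : Fin n → Γ(F, V), Submodule.span Γ(X, V) (Set.range s) = ⊤ := by
  have hpre : U.ι ''ᵁ (U.ι ⁻¹ᵁ V) = V := by
    rw [Scheme.Hom.image_preimage_eq_opensRange_inf, Scheme.Opens.opensRange_ι]
    exact inf_eq_right.2 hle
  have haff : IsAffineOpen (U.ι ⁻¹ᵁ V) := by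
    rw [← Scheme.Hom.isAffineOpen_iff_of_isOpenImmersion U.ι, hpre]
    exact hV
  haveI := Scheme.Modules.isQuasicoherent_restrictFunctor U.ι F
  have hsur : Function.Surjective (π.app (U.ι ⁻¹ᵁ V)) :=
    @H10Coh.surjective_app_of_epi _ _ _ π (H29Fitt.isQuasicoherent_freeMod _ n) ‹_› inferInstance _ haff
  have h1 : Submodule.span Γ(↑U, U.ι ⁻¹ᵁ V)
      (Set.range fun j => π.app (U.ι ⁻¹ᵁ V) (H29Fitt.gen (↑U) n j _)) = ⊤ :=
    H29Fitt.span_of_semilinear (RingHom.id _) (π.app (U.ι ⁻¹ᵁ V)).hom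
      (fun a m => π.app_smul a m) hsur (H29Fitt.gen_span n _)
  have h2 := H29Fitt.span_of_semilinear (U.ι.appIso _).inv.hom
    (F.restrictAppIso U.ι _).hom.hom (fun a m => rfl) (fun n => ⟨n, rfl⟩) h1
  have key : ∀ W : X.Opens, W = V → (∃ s : Fin n → Γ(F, W), Submodule.span Γ(X, W) (Set.range s) = ⊤) →
      ∃ s : Fin n → Γ(F, V), Submodule.span Γ(X, V) (Set.range s) = ⊤ := by
    rintro _ rfl h; exact h
  exact key _ hpre ⟨_, h2⟩

theorem exists_pow_smul_mem_of_span_eq_top {R : CommRingCat.{u}} (M : ModuleCat.{u} R) (a : R) {n : ℕ}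
    (s : Fin n → Γ(tilde M, PrimeSpectrum.basicOpen a))
    (hs : Submodule.span Γ(Spec R, PrimeSpectrum.basicOpen a) (Set.range s) = ⊤) :
    ∃ t : Fin n → M, ∀ x : M, ∃ N : ℕ, a ^ N • x ∈ Submodule.span R (Set.range t) := by
  classical
  let V : (Spec R).Opens := PrimeSpectrum.basicOpen a
  let φ : M →ₗ[R] Γ(tilde M, V) := (tilde.toOpen M V).hom
  haveI : IsLocalizedModule (Submonoid.powers a) φ :=
    inferInstanceAs (IsLocalizedModule.Away a (tilde.toOpen M (PrimeSpectrum.basicOpen a)).hom)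
  haveI : IsLocalization (Submonoid.powers a) Γ(Spec R, V) :=
    inferInstanceAs (IsLocalization.Away a Γ(Spec R, PrimeSpectrum.basicOpen a))
  choose p hp using fun j => IsLocalizedModule.surj (Submonoid.powers a) φ (s j)
  refine ⟨fun j => (p j).1, fun x => ?_⟩
  have hu : ∀ j, IsUnit (algebraMap R Γ(Spec R, V) ((p j).2 : R)) := fun j => IsLocalization.map_units _ (p j).2
  have hts : ∀ j, φ (p j).1 = algebraMap R Γ(Spec R, V) ((p j).2 : R) • s j := fun j => by
    rw [← hp j, Submonoid.smul_def, algebraMap_smul]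
  have hspan : φ x ∈ Submodule.span Γ(Spec R, V) (φ '' Set.range fun j => (p j).1) := by
    refine Submodule.span_le.mpr ?_ (hs.ge Submodule.mem_top)
    rintro _ ⟨j, rfl⟩
    rw [SetLike.mem_coe, ← Submodule.smul_mem_iff_of_isUnit _ (hu j), ← hts j]
    exact Submodule.subset_span ⟨_, ⟨j, rfl⟩, rfl⟩
  have key : ∀ y ∈ Submodule.span Γ(Spec R, V) (φ '' Set.range fun j => (p j).1),
      ∃ (N : Submonoid.powers a) (z : M), z ∈ Submodule.span R (Set.range fun j => (p j).1) ∧ N • y = φ z := by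
    intro y hy
    induction hy using Submodule.span_induction with
    | mem y hy =>
      obtain ⟨z, hz, rfl⟩ := hy
      exact ⟨1, z, Submodule.subset_span hz, one_smul _ _⟩
    | zero => exact ⟨1, 0, zero_mem _, by simp⟩
    | add y y' _ _ ih ih' =>
      obtain ⟨N, z, hz, e⟩ := ih
      obtain ⟨N', z', hz', e'⟩ := ih'
      refine ⟨N * N', (N' : R) • z + (N : R) • z', add_mem (Submodule.smul_mem _ _ hz) (Submodule.smul_mem _ _ hz'), ?_⟩
      rw [map_add, map_smul, map_smul, ← e, ← e', smul_add]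
      simp only [Submonoid.smul_def, Submonoid.coe_mul, smul_smul, mul_comm]
    | smul c y _ ih =>
      obtain ⟨N, z, hz, e⟩ := ih
      obtain ⟨⟨r, d⟩, hr⟩ := IsLocalization.surj (Submonoid.powers a) c
      refine ⟨d * N, r • z, Submodule.smul_mem _ _ hz, ?_⟩
      rw [map_smul, ← e, Submonoid.smul_def, Submonoid.smul_def, Submonoid.coe_mul, mul_smul,
        ← smul_comm c (N : R) y, smul_comm (d : R) c, ← algebraMap_smul Γ(Spec R, V) (d : R) ((N : R) • y),
        smul_smul, hr, algebraMap_smul]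
  obtain ⟨N, z, hz, e⟩ := key _ hspan
  rw [Submonoid.smul_def, ← map_smul] at e
  obtain ⟨c, hc⟩ := (IsLocalizedModule.eq_iff_exists (Submonoid.powers a) φ).mp e
  obtain ⟨k, hk⟩ := (c * N).2
  refine ⟨k, ?_⟩
  rw [show a ^ k = ((c : R) * (N : R)) from hk, mul_smul, ← Submonoid.smul_def, hc, Submonoid.smul_def]
  exact Submodule.smul_mem _ _ hz

theorem exists_generators_card_mul_of_open_cover (R : CommRingCat.{u}) (M : ModuleCat.{u} R) (n m : ℕ)
    (U : Fin m → (Spec R).Opens) (hU : ⨆ i, U i = ⊤)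
    (hgen : ∀ i, ∃ φ : FlatMod.freeMod (↑(U i)) n ⟶ (AlgebraicGeometry.tilde M).restrict (U i).ι, Epi φ) :
    ∃ s : Fin (n * m) → M, Submodule.span R (Set.range s) = ⊤ := by
  classical
  let J : Fin m → Ideal R := fun i => PrimeSpectrum.vanishingIdeal ((SetLike.coe (U i) : Set (PrimeSpectrum R))ᶜ)
  have hJ : ⨆ i, J i = ⊤ := by
    by_contra hne
    obtain ⟨P, hP, hle⟩ := Ideal.exists_le_maximal _ hne
    haveI := hP.isPrime
    obtain ⟨i, hi⟩ := Opens.mem_iSup.mp (show (⟨P, hP.isPrime⟩ : PrimeSpectrum R) ∈ (⨆ i, U i : (Spec R).Opens) from hU ▸ trivial)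
    have h1 : (⟨P, hP.isPrime⟩ : PrimeSpectrum R) ∈ closure ((SetLike.coe (U i) : Set (PrimeSpectrum R))ᶜ) := by
      rw [← PrimeSpectrum.zeroLocus_vanishingIdeal_eq_closure]
      exact SetLike.coe_subset_coe.mpr ((le_iSup J i).trans hle)
    have hcl : IsClosed ((SetLike.coe (U i) : Set (PrimeSpectrum R))ᶜ) := (U i).2.isClosed_compl
    rw [hcl.closure_eq] at h1
    exact h1 hi
  obtain ⟨f, hf, hfsum⟩ := (Submodule.mem_iSup_iff_exists_finsupp J (1 : R)).mp (hJ ▸ Submodule.mem_top)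
  let c : ∀ i, J i := fun i => ⟨f i, hf i⟩
  have hc : ∑ i, ((c i : J i) : R) = 1 := by rw [← hfsum, Finsupp.sum_fintype _ _ (fun _ => rfl)]
  have hDU : ∀ i, (PrimeSpectrum.basicOpen ((c i : J i) : R) : (Spec R).Opens) ≤ U i := by
    intro i p hp
    by_contra hpU
    exact hp ((PrimeSpectrum.mem_vanishingIdeal _ _).mp (c i).2 p hpU)
  haveI : (tilde M).IsQuasicoherent := inferInstance
  have hloc : ∀ i, ∃ t : Fin n → M, ∀ x : M, ∃ N : ℕ, ((c i : J i) : R) ^ N • x ∈ Submodule.span R (Set.range t) := by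
    intro i
    obtain ⟨π, hπ⟩ := hgen i
    haveI := hπ
    obtain ⟨s, hs⟩ := exists_span_sections (tilde M) π
      (V := PrimeSpectrum.basicOpen ((c i : J i) : R)) (IsAffineOpen.Spec_basicOpen _) (hDU i)
    exact exists_pow_smul_mem_of_span_eq_top M _ s hs
  choose t ht using hloc
  refine ⟨fun k => t (finProdFinEquiv.symm k).2 (finProdFinEquiv.symm k).1, eq_top_iff.mpr fun x _ => ?_⟩
  refine Submodule.mem_of_span_eq_top_of_smul_pow_mem _ (Set.range fun i => ((c i : J i) : R)) ?_ x ?_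
  · rw [Ideal.eq_top_iff_one, ← hc]
    exact sum_mem fun i _ => Ideal.subset_span ⟨i, rfl⟩
  · rintro ⟨_, i, rfl⟩
    obtain ⟨N, hN⟩ := ht i x
    refine ⟨N, Submodule.span_mono ?_ hN⟩
    rintro _ ⟨j, rfl⟩
    exact ⟨finProdFinEquiv (j, i), by simp⟩

end Groth.Agent.H24Algz
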