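import Groth.Agent.H24AdicGr.Approx
import Mathlib.RingTheory.ReesAlgebra
import Mathlib.RingTheory.Noetherian.Orzech

/-!
# Comparing associated graded rings through a common approximating ring
-/

set_option autoImplicit false
set_option linter.style.haveILetI false

universe u v w

namespace Groth.Agent.H24Algz

open AssocGr

section

variable {P : Type u} {R : Type v} [CommRing P] [CommRing R] (α : P →+* R) (m : Ideal P) (J : Ideal R)

/-- If the image of `m` generates `J` modulo `J²`, the image of `m ^ n` generates `J ^ n` modulo `J ^ (n+1)`. -/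
theorem pow_le_map_sup (hle : m.map α ≤ J) (hgen : J ≤ m.map α ⊔ J ^ 2) :
    ∀ n : ℕ, J ^ n ≤ (m ^ n).map α ⊔ J ^ (n + 1)
  | 0 => by
    rw [pow_zero, pow_zero, Ideal.one_eq_top, Ideal.one_eq_top, Ideal.map_top]
    exact le_sup_left
  | n + 1 => by
    have hn : (m ^ n).map α ≤ J ^ n := by
      rw [Ideal.map_pow]
      exact Ideal.pow_right_mono hle n
    calc J ^ (n + 1) = J ^ n * J := pow_succ J n
      _ ≤ ((m ^ n).map α ⊔ J ^ (n + 1)) * (m.map α ⊔ J ^ 2) :=
          Ideal.mul_mono (pow_le_map_sup hle hgen n) hgen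
      _ ≤ (m ^ (n + 1)).map α ⊔ J ^ (n + 1 + 1) := by
          rw [Ideal.sup_mul, Ideal.mul_sup, Ideal.mul_sup]
          refine sup_le (sup_le ?_ ?_) (sup_le ?_ ?_)
          · rw [pow_succ m n, Ideal.map_mul]
            exact le_sup_left
          · refine le_trans ((Ideal.mul_mono_left hn).trans ?_) le_sup_right
            rw [← pow_add]
          · refine le_trans ((Ideal.mul_mono_right hle).trans ?_) le_sup_right
            rw [← pow_succ]
          · refine le_trans ?_ le_sup_right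
            rw [← pow_add]
            exact Ideal.pow_le_pow_right (by omega)

/-- Under the same hypothesis every element is approximated by the image of `P` modulo every power of `J`. -/
theorem exists_approx (hle : m.map α ≤ J) (hgen : J ≤ m.map α ⊔ J ^ 2) (hres : ∀ b, ∃ p, b - α p ∈ J) :
    ∀ (n : ℕ) (b : R), ∃ p, b - α p ∈ J ^ n
  | 0, b => ⟨0, by rw [pow_zero, Ideal.one_eq_top]; trivial⟩
  | n + 1, b => by
    obtain ⟨p, hp⟩ := exists_approx hle hgen hres n b
    obtain ⟨y, hy, z, hz, hyz⟩ := Submodule.mem_sup.1 (pow_le_map_sup α m J hle hgen n hp)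
    have hy' : ∃ q, y - α q ∈ J ^ (n + 1) := by
      refine Submodule.span_induction ?_ ?_ ?_ ?_ (hy : y ∈ Ideal.span (α '' (m ^ n : Ideal P)))
      · rintro _ ⟨q, -, rfl⟩
        exact ⟨q, by simp⟩
      · exact ⟨0, by simp⟩
      · rintro a b _ _ ⟨q, hq⟩ ⟨q', hq'⟩
        exact ⟨q + q', by rw [map_add, show a + b - (α q + α q') = (a - α q) + (b - α q') by ring]; exact add_mem hq hq'⟩
      · rintro r a ha ⟨q, hq⟩
        obtain ⟨s, hs⟩ := hres r
        refine ⟨s * q, ?_⟩
        have ha' : a ∈ J ^ n := by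
          refine (le_of_le_of_eq (Ideal.pow_right_mono hle n) rfl) ?_
          rw [← Ideal.map_pow]
          exact ha
        rw [smul_eq_mul, map_mul, show r * a - α s * α q = (r - α s) * a + α s * (a - α q) by ring]
        refine add_mem ?_ (Ideal.mul_mem_left _ _ hq)
        rw [pow_succ']
        exact Ideal.mul_mem_mul hs ha'
    obtain ⟨q, hq⟩ := hy'
    exact ⟨p + q, by rw [map_add, ← sub_sub, ← hyz, show y + z - α q = (y - α q) + z by ring]; exact add_mem hq hz⟩

/-- Elements of `J ^ n` are approximated modulo `J ^ (n+1)` by images of elements of `m ^ n`. -/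
theorem exists_approx_pow (hle : m.map α ≤ J) (hgen : J ≤ m.map α ⊔ J ^ 2) (hres : ∀ b, ∃ p, b - α p ∈ J)
    (n : ℕ) {b : R} (hb : b ∈ J ^ n) : ∃ p ∈ m ^ n, α p - b ∈ J ^ (n + 1) := by
  obtain ⟨y, hy, z, hz, hyz⟩ := Submodule.mem_sup.1 (pow_le_map_sup α m J hle hgen n hb)
  suffices h : ∃ p ∈ m ^ n, α p - y ∈ J ^ (n + 1) by
    obtain ⟨p, hp, hpy⟩ := h
    exact ⟨p, hp, by rw [← hyz, ← sub_sub]; exact sub_mem hpy hz⟩
  refine Submodule.span_induction ?_ ?_ ?_ ?_ (hy : y ∈ Ideal.span (α '' (m ^ n : Ideal P)))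
  · rintro _ ⟨q, hq, rfl⟩
    exact ⟨q, hq, by simp⟩
  · exact ⟨0, zero_mem _, by simp⟩
  · rintro a b _ _ ⟨q, hq, hq'⟩ ⟨r, hr, hr'⟩
    exact ⟨q + r, add_mem hq hr, by rw [map_add, add_sub_add_comm]; exact add_mem hq' hr'⟩
  · rintro r a ha ⟨q, hq, hq'⟩
    obtain ⟨s, hs⟩ := hres r
    refine ⟨s * q, Ideal.mul_mem_left _ _ hq, ?_⟩
    have ha' : a ∈ J ^ n := by
      refine Ideal.pow_right_mono hle n ?_
      rw [← Ideal.map_pow]
      exact ha
    rw [smul_eq_mul, map_mul, show α s * α q - r * a = α s * (α q - a) - (r - α s) * a by ring]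
    refine sub_mem (Ideal.mul_mem_left _ _ hq') ?_
    rw [pow_succ']
    exact Ideal.mul_mem_mul hs ha'

theorem isFiltHom_of_le (hle : m.map α ≤ J) :
    IsFiltHom α (FiltBl.IdealFiltration.adic m) (FiltBl.IdealFiltration.adic J) :=
  IsFiltHom.adic hle

end

section compare

variable {P : Type u} {R : Type v} {A : Type w} [CommRing P] [CommRing R] [CommRing A] {α : P →+* R} {β : P →+* A}
  {m : Ideal P} {JR : Ideal R} {JA : Ideal A}

/-- Two approximated rings with the same kernels on graded pieces have the same associated graded ring. -/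
theorem exists_grIso (hR : IsFiltHom α (FiltBl.IdealFiltration.adic m) (FiltBl.IdealFiltration.adic JR))
    (hA : IsFiltHom β (FiltBl.IdealFiltration.adic m) (FiltBl.IdealFiltration.adic JA))
    (hRs : ∀ n, ∀ b ∈ JR ^ n, ∃ a ∈ m ^ n, α a - b ∈ JR ^ (n + 1))
    (hAs : ∀ n, ∀ b ∈ JA ^ n, ∃ a ∈ m ^ n, β a - b ∈ JA ^ (n + 1))
    (hk : ∀ n, ∀ a ∈ m ^ n, α a ∈ JR ^ (n + 1) ↔ β a ∈ JA ^ (n + 1)) :
    ∃ e : GrRing (FiltBl.IdealFiltration.adic JR) ≃+* GrRing (FiltBl.IdealFiltration.adic JA),
      (∀ (n : ℕ) (x : GrRing (FiltBl.IdealFiltration.adic JR)),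
        x ∈ gr (FiltBl.IdealFiltration.adic JR) n → e x ∈ gr (FiltBl.IdealFiltration.adic JA) n) ∧
      ∀ p : P, e (algebraMap R _ (α p)) = algebraMap A _ (β p) := by
  have hker : RingHom.ker (map hR) = RingHom.ker (map hA) := by
    ext x
    obtain ⟨f, rfl⟩ := mkG_surjective _ x
    rw [RingHom.mem_ker, RingHom.mem_ker, map_mkG, map_mkG, mkG_eq_zero_iff, mkG_eq_zero_iff,
      mem_succIdeal_iff, mem_succIdeal_iff]
    refine forall_congr' fun n => ?_
    rw [coe_reesMap, coe_reesMap, Polynomial.coeff_map, Polynomial.coeff_map]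
    exact hk n _ (f.2 n)
  have hsR := H24AdicGr.map_surjective hR hRs
  have hsA := H24AdicGr.map_surjective hA hAs
  let e := ((RingHom.quotientKerEquivOfSurjective hsR).symm.trans (Ideal.quotEquivOfEq hker)).trans
    (RingHom.quotientKerEquivOfSurjective hsA)
  have he : ∀ z, e (map hR z) = map hA z := fun z => by
    have h1 : (RingHom.quotientKerEquivOfSurjective hsR).symm (map hR z) = Ideal.Quotient.mk _ z := by
      rw [RingEquiv.symm_apply_eq]
      rfl
    show RingHom.quotientKerEquivOfSurjective hsA (Ideal.quotEquivOfEq hker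
      ((RingHom.quotientKerEquivOfSurjective hsR).symm (map hR z))) = _
    rw [h1]
    rfl
  refine ⟨e, fun n x hx => ?_, fun p => ?_⟩
  · obtain ⟨y, rfl⟩ : ∃ y, (inDeg (FiltBl.IdealFiltration.adic JR) n y : GrRing _) = x := by
      obtain ⟨y, hy⟩ := inDeg_surjective _ n ⟨x, hx⟩
      exact ⟨y, congrArg Subtype.val hy⟩
    obtain ⟨a, ha, hay⟩ := hRs n y.1 y.2
    have h1 : map hR (inDeg (FiltBl.IdealFiltration.adic m) n ⟨a, ha⟩ : GrRing _) =
        (inDeg (FiltBl.IdealFiltration.adic JR) n y : GrRing _) := by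
      rw [map_inDeg, ← sub_eq_zero, ← AddSubgroupClass.coe_sub, ← map_sub, Submodule.coe_eq_zero, inDeg_eq_zero_iff]
      exact hay
    rw [← h1, he]
    exact map_mem_gr hA (inDeg (FiltBl.IdealFiltration.adic m) n ⟨a, ha⟩).2
  · rw [← map_algebraMap hR, he, map_algebraMap]

end compare

/-- The associated graded ring of an adic filtration of a Noetherian ring is Noetherian. -/
theorem isNoetherianRing_gr {R : Type u} [CommRing R] [IsNoetherianRing R] (b : Ideal R) :
    IsNoetherianRing (GrRing (FiltBl.IdealFiltration.adic b)) := by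
  let j : reesAlgebra b →ₐ[R] (FiltBl.IdealFiltration.adic b).rees :=
    Subalgebra.inclusion (fun _ hf => hf)
  exact isNoetherianRing_of_surjective (reesAlgebra b) _
    ((mkG (FiltBl.IdealFiltration.adic b)).toRingHom.comp j.toRingHom)
    ((mkG_surjective (FiltBl.IdealFiltration.adic b)).comp fun f => ⟨⟨f.1, f.2⟩, rfl⟩)

/-- A surjective endomorphism of a Noetherian ring is injective. -/
theorem injective_of_surjective_ringEnd {R : Type u} [CommRing R] [IsNoetherianRing R] (f : R →+* R)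
    (hf : Function.Surjective f) : Function.Injective f := by
  obtain ⟨n, hn⟩ := monotone_stabilizes_iff_noetherian.2 (inferInstance : IsNoetherian R R)
    ⟨fun i => RingHom.ker (f ^ i : R →+* R), monotone_nat_of_le_succ fun i x hx => by
      rw [RingHom.mem_ker] at hx ⊢
      rw [pow_succ', RingHom.mul_def, RingHom.comp_apply, hx, map_zero]⟩
  rw [injective_iff_map_eq_zero]
  intro a ha
  have hs : Function.Surjective (f ^ n : R →+* R) := by
    rw [RingHom.coe_pow]
    exact hf.iterate n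
  obtain ⟨b, rfl⟩ := hs a
  have h1 : b ∈ RingHom.ker (f ^ (n + 1) : R →+* R) := by
    rw [RingHom.mem_ker, pow_succ', RingHom.mul_def, RingHom.comp_apply, ha]
  have h2 : RingHom.ker (f ^ n : R →+* R) = RingHom.ker (f ^ (n + 1) : R →+* R) := hn (n + 1) (Nat.le_succ n)
  rw [← h2, RingHom.mem_ker] at h1
  exact h1

end Groth.Agent.H24Algz
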