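import Groth.Agent.H24Algz.Generators
import Groth.Agent.H16Derived.KFlat.FinLocFree
import Groth.Agent.H17.OmegaAffine
import Groth.Prelude.Def_W4c5algebraiztannakaNis
import Mathlib.AlgebraicGeometry.Morphisms.ClosedImmersion
import Mathlib.LinearAlgebra.TensorProduct.Quotient
import Mathlib.RingTheory.Nakayama

/-! Generators of a module from generators of its pullback along a Nisnevich cover of bounded length. -/

set_option autoImplicit false
set_option linter.style.haveILetI false

universe u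

open CategoryTheory CategoryTheory.Limits AlgebraicGeometry Opposite TopologicalSpace TensorProduct
open W4c5algebraiztannaka

namespace Groth.Agent.H24Algz

theorem exists_span_of_epi_freeMod {B : CommRingCat.{u}} (P : ModuleCat.{u} B) {n : ℕ}
    (π : FlatMod.freeMod (Spec B) n ⟶ tilde P) [Epi π] :
    ∃ t : Fin n → P, Submodule.span B (Set.range t) = ⊤ := by
  haveI : (tilde P).IsQuasicoherent := inferInstance
  have haff : @IsAffineOpen (Spec B) (PrimeSpectrum.basicOpen (1 : B)) := IsAffineOpen.Spec_basicOpen _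
  have hsur : Function.Surjective (π.app (PrimeSpectrum.basicOpen (1 : B))) :=
    @H10Coh.surjective_app_of_epi _ _ _ π (H29Fitt.isQuasicoherent_freeMod _ n) ‹_› inferInstance _ haff
  have h1 : Submodule.span Γ(Spec B, PrimeSpectrum.basicOpen (1 : B))
      (Set.range fun j => π.app (PrimeSpectrum.basicOpen (1 : B)) (H29Fitt.gen (Spec B) n j _)) = ⊤ :=
    H29Fitt.span_of_semilinear (RingHom.id _) (π.app (PrimeSpectrum.basicOpen (1 : B))).hom
      (fun a m => π.app_smul a m) hsur (H29Fitt.gen_span n _)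
  obtain ⟨t, ht⟩ := exists_pow_smul_mem_of_span_eq_top P 1 _ h1
  refine ⟨t, eq_top_iff.mpr fun x _ => ?_⟩
  obtain ⟨N, hN⟩ := ht x
  rwa [one_pow, one_smul] at hN

theorem exists_lift_of_section_mod {R : CommRingCat.{u}} (M : ModuleCat.{u} R) {U : Scheme.{u}}
    (f : U ⟶ Spec R) {N : ℕ}
    (π : FlatMod.freeMod U N ⟶ (Scheme.Modules.pullback f).obj (AlgebraicGeometry.tilde M)) [Epi π]
    (J : Ideal R) (w : Spec (CommRingCat.of (R ⧸ J)) ⟶ U)
    (hw : w ≫ f = Spec.map (CommRingCat.ofHom (Ideal.Quotient.mk J))) :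
    ∃ m : Fin N → M, (⊤ : Submodule R M) ≤ Submodule.span R (Set.range m) ⊔ J • ⊤ := by
  let φ : R ⟶ CommRingCat.of (R ⧸ J) := CommRingCat.ofHom (Ideal.Quotient.mk J)
  let e : (Scheme.Modules.pullback w).obj ((Scheme.Modules.pullback f).obj (tilde M)) ≅
      tilde ((ModuleCat.extendScalars φ.hom).obj M) :=
    (Scheme.Modules.pullbackComp w f).app (tilde M) ≪≫ (Scheme.Modules.pullbackCongr hw).app (tilde M) ≪≫
      (H17.OmegaAffine.pullbackTildeIso φ).app M
  let π' : FlatMod.freeMod (Spec (CommRingCat.of (R ⧸ J))) N ⟶ tilde ((ModuleCat.extendScalars φ.hom).obj M) :=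
    (H16Derived.KFlat.Stalk.freeModPullbackIso w N).inv ≫ (Scheme.Modules.pullback w).map π ≫ e.hom
  haveI : (Scheme.Modules.pullback w).IsLeftAdjoint :=
    (Scheme.Modules.pullbackPushforwardAdjunction w).isLeftAdjoint
  haveI : (Scheme.Modules.pullback w).PreservesEpimorphisms :=
    Functor.preservesEpimorphisms_of_adjunction (Scheme.Modules.pullbackPushforwardAdjunction w)
  haveI : Epi π' := epi_comp' inferInstance (epi_comp' inferInstance inferInstance)
  obtain ⟨σ, hσ⟩ := exists_span_of_epi_freeMod _ π'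
  let σ' : Fin N → (R ⧸ J) ⊗[R] M := σ
  have hσ' : Submodule.span (R ⧸ J) (Set.range σ') = ⊤ := hσ
  have hR : Submodule.span R (Set.range σ') = ⊤ := by
    rw [← Submodule.restrictScalars_span R (R ⧸ J) Ideal.Quotient.mk_surjective, hσ',
      Submodule.restrictScalars_top]
  let q := TensorProduct.quotTensorEquivQuotSMul M J
  choose m hm using fun j => Submodule.mkQ_surjective (J • ⊤ : Submodule R M) (q (σ' j))
  refine ⟨m, fun x _ => ?_⟩
  have h1 : Submodule.map (J • ⊤ : Submodule R M).mkQ (Submodule.span R (Set.range m)) = ⊤ := by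
    rw [Submodule.map_span, ← Set.range_comp,
      show (J • ⊤ : Submodule R M).mkQ ∘ m = q.toLinearMap ∘ σ' from funext hm, Set.range_comp,
      ← Submodule.map_span, hR, Submodule.map_top, LinearEquiv.range]
  have h2 : (J • ⊤ : Submodule R M).mkQ x ∈ Submodule.map (J • ⊤ : Submodule R M).mkQ (Submodule.span R (Set.range m)) :=
    h1 ▸ Submodule.mem_top
  obtain ⟨y, hy, hxy⟩ := h2
  have h3 : x - y ∈ (J • ⊤ : Submodule R M) := by
    rw [← Submodule.Quotient.eq]
    exact hxy.symm
  exact Submodule.mem_sup.mpr ⟨y, hy, x - y, h3, add_sub_cancel _ _⟩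

/-- A closed set on which an immersion has a lift gives an ideal with a lift. -/
theorem exists_ideal_lift {R : CommRingCat.{u}} {U T : Scheme.{u}} (f : U ⟶ Spec R) (g : T ⟶ Spec R)
    (s : T ⟶ U) [IsImmersion g] (hs : s ≫ f = g) (C : Set (PrimeSpectrum R)) (hC : IsClosed C)
    (hsub : C ⊆ Set.range g) :
    ∃ (J : Ideal R) (w : Spec (CommRingCat.of (R ⧸ J)) ⟶ U),
      PrimeSpectrum.zeroLocus (J : Set R) = C ∧ w ≫ f = Spec.map (CommRingCat.ofHom (Ideal.Quotient.mk J)) := by
  let I : Ideal R := PrimeSpectrum.vanishingIdeal C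
  let φ : R ⟶ CommRingCat.of (R ⧸ I) := CommRingCat.ofHom (Ideal.Quotient.mk I)
  haveI : IsClosedImmersion (Spec.map φ) := IsClosedImmersion.spec_of_surjective φ Ideal.Quotient.mk_surjective
  have hrφ : Set.range (Spec.map φ) = C := by
    show Set.range (PrimeSpectrum.comap (Ideal.Quotient.mk I)) = C
    rw [range_comap_of_surjective _ _ Ideal.Quotient.mk_surjective, Ideal.mk_ker,
      PrimeSpectrum.zeroLocus_vanishingIdeal_eq_closure, hC.closure_eq]
  have hsurj : Set.range (pullback.fst (Spec.map φ) g) = Set.univ := by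
    rw [Scheme.Pullback.range_fst, Set.eq_univ_iff_forall]
    exact fun x => hsub (hrφ ▸ Set.mem_range_self x)
  haveI : IsClosedImmersion (pullback.fst (Spec.map φ) g) :=
    IsClosedImmersion.of_isPreimmersion _ (hsurj ▸ isClosed_univ)
  obtain ⟨J, e, he⟩ := IsClosedImmersion.Spec_iff.mp
    (inferInstance : IsClosedImmersion (pullback.fst (Spec.map φ) g ≫ Spec.map φ))
  let ψ : R ⟶ CommRingCat.of (R ⧸ J) := CommRingCat.ofHom (Ideal.Quotient.mk J)
  have he' : e.inv ≫ pullback.fst (Spec.map φ) g ≫ Spec.map φ = Spec.map ψ := by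
    rw [he, Iso.inv_hom_id_assoc]
  refine ⟨J, e.inv ≫ pullback.snd (Spec.map φ) g ≫ s, ?_, ?_⟩
  · have h0 : Set.range (Spec.map ψ) = PrimeSpectrum.zeroLocus (J : Set R) := by
      show Set.range (PrimeSpectrum.comap (Ideal.Quotient.mk J)) = _
      rw [range_comap_of_surjective _ _ Ideal.Quotient.mk_surjective, Ideal.mk_ker]
    rw [← h0, ← he', ← hrφ]
    apply Set.ext
    intro x
    constructor
    · rintro ⟨y, rfl⟩
      exact ⟨pullback.fst (Spec.map φ) g (e.inv y), rfl⟩
    · rintro ⟨y, rfl⟩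
      obtain ⟨z, rfl⟩ := hsurj.ge (Set.mem_univ y)
      obtain ⟨z', rfl⟩ := e.inv.surjective z
      exact ⟨z', rfl⟩
  · simp only [Category.assoc, hs, ← pullback.condition]
    exact he'

/-- Generators of a module from generators of its pullback along a Nisnevich cover. -/
theorem exists_generators_card_mul_of_isNisCoverLen (R : CommRingCat.{u}) (M : ModuleCat.{u} R)
    [Module.Finite R M] {U : Scheme.{u}} (f : U ⟶ Spec R) (m N : ℕ) (hf : IsNisCoverLen f m)
    (hgen : ∃ φ : FlatMod.freeMod U N ⟶ (Scheme.Modules.pullback f).obj (AlgebraicGeometry.tilde M), Epi φ) :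
    ∃ s : Fin (N * m) → M, Submodule.span R (Set.range s) = ⊤ := by
  classical
  obtain ⟨π, hπ⟩ := hgen
  haveI := hπ
  obtain ⟨-, Z, hZ0, hZm, -, hZc, hZs⟩ := hf
  have key : ∀ k : Fin (m + 1), ∃ (t : Fin (N * (k : ℕ)) → M) (O : Set (PrimeSpectrum R)), IsOpen O ∧ Z k ⊆ O ∧
      ∀ p ∈ O, ∃ r : R, r ∉ p.asIdeal ∧ ∀ x : M, r • x ∈ Submodule.span R (Set.range t) := by
    intro k
    induction k using Fin.induction with
    | zero => exact ⟨fun _ => 0, ∅, isOpen_empty, hZ0.le, fun p hp => absurd hp (Set.notMem_empty p)⟩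
    | succ k ih =>
      obtain ⟨t, O, hO, hsub, hp⟩ := ih
      obtain ⟨T, g, s, hg, hrange, hs⟩ := hZs k
      haveI := hg
      let C : Set (PrimeSpectrum R) := Z k.succ \ O
      have hC : IsClosed C := (hZc k.succ).1.sdiff hO
      have hCsub : C ⊆ Set.range g := hrange ▸ Set.sdiff_subset_sdiff_right hsub
      obtain ⟨J, w, hJ, hw⟩ := exists_ideal_lift f g s hs C hC hCsub
      obtain ⟨n, hn⟩ := exists_lift_of_section_mod M f π J w hw
      let S : Submodule R M := Submodule.span R (Set.range n)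
      obtain ⟨r, hr, hr0⟩ := Submodule.exists_sub_one_mem_and_smul_eq_zero_of_fg_of_le_smul J
        (⊤ : Submodule R (M ⧸ S)) Module.Finite.fg_top (by
          have h := Submodule.map_mono (f := S.mkQ) hn
          rw [Submodule.map_sup, Submodule.map_smul'', Submodule.mkQ_map_self, bot_sup_eq, Submodule.map_top,
            Submodule.range_mkQ] at h
          exact h)
      have hrS : ∀ x : M, r • x ∈ S := fun x =>
        (Submodule.Quotient.mk_eq_zero S).mp ((Submodule.Quotient.mk_smul S r x).trans (hr0 _ Submodule.mem_top))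
      let t' : Fin (N * (k.succ : ℕ)) → M :=
        fun i => Fin.append t n (Fin.cast (by simp [Nat.mul_succ]) i)
      have ht' : Set.range t' = Set.range t ∪ Set.range n := by
        refine (Set.range_comp_subset_range _ _).antisymm ?_ |>.trans ?_
        · rintro _ ⟨i, rfl⟩
          exact ⟨Fin.cast (by simp [Nat.mul_succ]) i, by simp [t']⟩
        · ext x
          constructor
          · rintro ⟨i, rfl⟩
            refine Fin.addCases (fun j => ?_) (fun j => ?_) i
            · exact Or.inl ⟨j, by simp⟩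
            · exact Or.inr ⟨j, by simp⟩
          · rintro (⟨j, rfl⟩ | ⟨j, rfl⟩)
            · exact ⟨Fin.castAdd _ j, by simp⟩
            · exact ⟨Fin.natAdd _ j, by simp⟩
      refine ⟨t', O ∪ {p | r ∉ p.asIdeal}, hO.union (PrimeSpectrum.basicOpen r).isOpen, ?_, ?_⟩
      · intro p hpZ
        by_cases hpO : p ∈ O
        · exact Or.inl hpO
        · refine Or.inr fun hrp => ?_
          have hJp : J ≤ p.asIdeal := (hJ.ge ⟨hpZ, hpO⟩ : p ∈ PrimeSpectrum.zeroLocus (J : Set R))
          exact p.isPrime.ne_top ((Ideal.eq_top_iff_one _).mpr (by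
            simpa using sub_mem hrp (hJp hr)))
      · rintro p (hpO | hpr)
        · obtain ⟨a, ha, hax⟩ := hp p hpO
          exact ⟨a, ha, fun x => Submodule.span_mono (ht' ▸ Set.subset_union_left) (hax x)⟩
        · exact ⟨r, hpr, fun x => Submodule.span_mono (ht' ▸ Set.subset_union_right) (hrS x)⟩
  obtain ⟨t, O, -, hsub, hp⟩ := key (Fin.last m)
  refine ⟨t, ?_⟩
  by_contra hne
  let A : Ideal R := (Submodule.span R (Set.range t)).colon (⊤ : Submodule R M)
  have hA : A ≠ ⊤ := fun h => hne (eq_top_iff.mpr fun x _ => by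
    have h1 := (Submodule.mem_colon.mp ((Ideal.eq_top_iff_one A).mp h)) x Submodule.mem_top
    rwa [one_smul] at h1)
  obtain ⟨P, hP, hle⟩ := Ideal.exists_le_maximal _ hA
  obtain ⟨r, hr, hrx⟩ := hp ⟨P, hP.isPrime⟩ (hsub (hZm ▸ trivial))
  exact hr (hle (Submodule.mem_colon.mpr fun x _ => hrx x))

end Groth.Agent.H24Algz
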