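import Groth.Agent.H11Ample.RelPullback
import Mathlib.AlgebraicGeometry.Morphisms.QuasiSeparated

/-! Uniformly bounded affine covers of base changes to affine schemes. -/

set_option autoImplicit false
set_option linter.style.haveILetI false

universe u

open CategoryTheory CategoryTheory.Limits AlgebraicGeometry TopologicalSpace

namespace Groth.Agent.H24Algz

theorem exists_basicOpen_family_of_iSup_eq_top {B : CommRingCat.{u}} {ι : Type*} [Finite ι]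
    (U : ι → (Spec B).Opens) (hU : ⨆ i, U i = ⊤) :
    ∃ c : ι → B, (∀ i, (PrimeSpectrum.basicOpen (c i) : (Spec B).Opens) ≤ U i) ∧
      ∀ x : PrimeSpectrum B, ∃ i, c i ∉ x.asIdeal := by
  classical
  haveI := Fintype.ofFinite ι
  let J : ι → Ideal B := fun i => PrimeSpectrum.vanishingIdeal ((SetLike.coe (U i) : Set (PrimeSpectrum B))ᶜ)
  have hJ : ⨆ i, J i = ⊤ := by
    by_contra hne
    obtain ⟨P, hP, hle⟩ := Ideal.exists_le_maximal _ hne
    haveI := hP.isPrime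
    obtain ⟨i, hi⟩ := Opens.mem_iSup.mp (show (⟨P, hP.isPrime⟩ : PrimeSpectrum B) ∈ (⨆ i, U i : (Spec B).Opens) from hU ▸ trivial)
    have h1 : (⟨P, hP.isPrime⟩ : PrimeSpectrum B) ∈ closure ((SetLike.coe (U i) : Set (PrimeSpectrum B))ᶜ) := by
      rw [← PrimeSpectrum.zeroLocus_vanishingIdeal_eq_closure]
      exact SetLike.coe_subset_coe.mpr ((le_iSup J i).trans hle)
    have hcl : IsClosed ((SetLike.coe (U i) : Set (PrimeSpectrum B))ᶜ) := (U i).2.isClosed_compl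
    rw [hcl.closure_eq] at h1
    exact h1 hi
  obtain ⟨f, hf, hfsum⟩ := (Submodule.mem_iSup_iff_exists_finsupp J (1 : B)).mp (hJ ▸ Submodule.mem_top)
  refine ⟨f, fun i p hp => ?_, fun x => ?_⟩
  · by_contra hpU
    exact hp ((PrimeSpectrum.mem_vanishingIdeal _ _).mp (hf i) p hpU)
  · by_contra h
    push Not at h
    refine x.isPrime.ne_top ((Ideal.eq_top_iff_one _).mpr ?_)
    rw [← hfsum]
    exact sum_mem fun i _ => h i

/-- The preimages in affine schemes of a quasi-compact open of a qcqs scheme are covered by a uniformly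
bounded number of affine opens. -/
theorem exists_uniform_affine_cover_preimage {Y : Scheme.{u}} [CompactSpace Y] [QuasiSeparatedSpace Y]
    (V : Y.Opens) (hV : IsCompact (V : Set Y)) :
    ∃ (ι : Type u) (_ : Finite ι), ∀ (B : CommRingCat.{u}) (g : Spec B ⟶ Y),
      ∃ D : ι → (Spec B).Opens, (∀ i, IsAffineOpen (D i)) ∧ ⨆ i, D i = g ⁻¹ᵁ V := by
  classical
  obtain ⟨s, hs, htop⟩ := isCompact_iff_finite_and_eq_biUnion_affineOpens.mp
    (show IsCompact ((⊤ : Y.Opens) : Set Y) from isCompact_univ)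
  have key : ∀ a : s, ∃ t : Finset Γ(Y, (a.1 : Y.Opens)),
      ((V ⊓ a.1.1 : Y.Opens) : Set Y) = ⋃ h ∈ t, (Y.basicOpen h : Set Y) := by
    intro a
    have hc : IsCompact ((V ⊓ a.1.1 : Y.Opens) : Set Y) :=
      QuasiSeparatedSpace.inter_isCompact _ _ V.2 hV a.1.1.2 a.1.2.isCompact
    obtain ⟨t, ht⟩ := hc.elim_finite_subcover
      (fun h : {h : Γ(Y, (a.1 : Y.Opens)) // Y.basicOpen h ≤ V ⊓ a.1.1} => (Y.basicOpen h.1 : Set Y))
      (fun h => (Y.basicOpen h.1).2) (fun x hx => by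
        obtain ⟨f, hf, hxf⟩ := a.1.2.exists_basicOpen_le ⟨x, hx⟩ hx.2
        exact Set.mem_iUnion.mpr ⟨⟨f, hf⟩, hxf⟩)
    refine ⟨t.image Subtype.val, Set.Subset.antisymm (fun x hx => ?_) ?_⟩
    · obtain ⟨h, hh, hxh⟩ := Set.mem_iUnion₂.mp (ht hx)
      exact Set.mem_iUnion₂.mpr ⟨h.1, Finset.mem_image_of_mem _ hh, hxh⟩
    · intro x hx
      obtain ⟨h, hh, hxh⟩ := Set.mem_iUnion₂.mp hx
      obtain ⟨h', -, rfl⟩ := Finset.mem_image.mp hh
      exact h'.2 hxh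
  choose t ht using key
  haveI : Finite s := hs.to_subtype
  refine ⟨Σ a : s, {h // h ∈ t a}, inferInstance, fun B g => ?_⟩
  have hcov : ⨆ a : s, g ⁻¹ᵁ a.1.1 = ⊤ := by
    rw [eq_top_iff]
    intro x _
    have hx : g x ∈ (⨆ i ∈ s, (i : Y.Opens)) := htop ▸ trivial
    simp only [Opens.mem_iSup] at hx
    obtain ⟨i, hi, hxi⟩ := hx
    exact Opens.mem_iSup.mpr ⟨⟨i, hi⟩, hxi⟩
  obtain ⟨c, hc, hccov⟩ := exists_basicOpen_family_of_iSup_eq_top _ hcov
  have hex : ∀ a : s, ∃ E : (Spec B).Opens, IsAffineOpen E ∧ E ≤ g ⁻¹ᵁ a.1.1 ∧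
      ∀ x : PrimeSpectrum B, c a ∉ x.asIdeal → x ∈ E :=
    fun a => ⟨_, IsAffineOpen.Spec_basicOpen (c a), hc a, fun x hx => hx⟩
  choose E hE hEle hEmem using hex
  refine ⟨fun i => g ⁻¹ᵁ Y.basicOpen i.2.1 ⊓ E i.1, fun i => ?_, ?_⟩
  · have h : (Spec B).basicOpen ((Spec B).presheaf.map (homOfLE (hEle i.1)).op (g.app _ i.2.1)) =
        g ⁻¹ᵁ Y.basicOpen i.2.1 ⊓ E i.1 := by
      rw [Scheme.basicOpen_res, Scheme.preimage_basicOpen, inf_comm]
    show IsAffineOpen (g ⁻¹ᵁ Y.basicOpen i.2.1 ⊓ E i.1)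
    rw [← h]
    exact (hE i.1).basicOpen _
  · refine le_antisymm (iSup_le fun i x hx => ?_) (fun x hx => ?_)
    · have h1 : g x ∈ ((V ⊓ i.1.1.1 : Y.Opens) : Set Y) := by
        rw [ht i.1]
        exact Set.mem_iUnion₂.mpr ⟨i.2.1, i.2.2, hx.1⟩
      exact h1.1
    · obtain ⟨a, ha⟩ := hccov x
      have hga : g x ∈ ((V ⊓ a.1.1 : Y.Opens) : Set Y) := ⟨hx, hc a ha⟩
      rw [ht a] at hga
      obtain ⟨h, hh, hxh⟩ := Set.mem_iUnion₂.mp hga
      exact Opens.mem_iSup.mpr ⟨⟨a, ⟨h, hh⟩⟩, hxh, hEmem a x ha⟩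

/-- The base changes of a quasi-compact scheme over a qcqs scheme to affine schemes are covered by a uniformly
bounded number of affine opens. -/
theorem exists_uniform_affine_cover_pullback {W Y : Scheme.{u}} (j : W ⟶ Y) [CompactSpace W] [CompactSpace Y]
    [QuasiSeparatedSpace Y] :
    ∃ m : ℕ, ∀ (B : CommRingCat.{u}) (g : Spec B ⟶ Y),
      ∃ U : Fin m → (Limits.pullback j g).Opens, (∀ k, IsAffineOpen (U k)) ∧ ⨆ k, U k = ⊤ := by
  classical
  have key : ∀ w : W, ∃ (V : Y.Opens) (W' : W.Opens), IsAffineOpen V ∧ IsAffineOpen W' ∧ w ∈ W' ∧ W' ≤ j ⁻¹ᵁ V := by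
    intro w
    obtain ⟨V, hV, hwV, -⟩ := exists_isAffineOpen_mem_and_subset (U := (⊤ : Y.Opens)) (x := j w) trivial
    obtain ⟨W', hW', hwW', hle⟩ := exists_isAffineOpen_mem_and_subset (U := j ⁻¹ᵁ V) hwV
    exact ⟨V, W', hV, hW', hwW', hle⟩
  choose V W' hV hW' hmem hle using key
  obtain ⟨S, hS⟩ := isCompact_univ.elim_finite_subcover (fun w => (W' w : Set W)) (fun w => (W' w).2)
    (fun w _ => Set.mem_iUnion.mpr ⟨w, hmem w⟩)
  choose ι hι hD using fun w => exists_uniform_affine_cover_preimage (V w) (hV w).isCompact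
  haveI := hι
  haveI : Fintype (Σ w : S, ι w.1) := Fintype.ofFinite _
  let e := Fintype.equivFin (Σ w : S, ι w.1)
  refine ⟨Fintype.card (Σ w : S, ι w.1), fun B g => ?_⟩
  choose D hDaff hDsup using fun w : W => hD w B g
  refine ⟨fun k => pullback.fst j g ⁻¹ᵁ W' (e.symm k).1.1 ⊓ pullback.snd j g ⁻¹ᵁ D (e.symm k).1.1 (e.symm k).2,
    fun k => H11Ample.isAffineOpen_fst_inf_snd j g (hV _) (hW' _) (hle _) (hDaff _ _)
      ((le_iSup (D (e.symm k).1.1) _).trans (hDsup _).le), ?_⟩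
  rw [eq_top_iff]
  intro p _
  obtain ⟨w, hw, hpw⟩ := Set.mem_iUnion₂.mp (hS (Set.mem_univ (pullback.fst j g p)))
  have h1 : pullback.snd j g p ∈ (⨆ i, D w i : (Spec B).Opens) := by
    rw [hDsup w]
    show g (pullback.snd j g p) ∈ V w
    rw [← Scheme.Hom.comp_apply, ← pullback.condition, Scheme.Hom.comp_apply]
    exact hle w hpw
  obtain ⟨i, hi⟩ := Opens.mem_iSup.mp h1
  refine Opens.mem_iSup.mpr ⟨e ⟨⟨w, hw⟩, i⟩, ?_⟩
  have hq : ∀ q : (Σ w : S, ι w.1), q = ⟨⟨w, hw⟩, i⟩ →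
      p ∈ pullback.fst j g ⁻¹ᵁ W' q.1.1 ⊓ pullback.snd j g ⁻¹ᵁ D q.1.1 q.2 := by
    rintro _ rfl
    exact ⟨hpw, hi⟩
  exact hq _ (e.symm_apply_apply _)

end Groth.Agent.H24Algz
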