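import Groth.Agent.H24Algz.PresBound
import Groth.Agent.H24Algz.UniformCover
import Groth.Agent.H06EGA9.FlatLocallyConstructible
import Groth.Agent.H17.OmegaAffine
import Groth.Agent.H29Fitt.FP
import Groth.Agent.H29Fitt.Admissible

/-! Products of sections of pullbacks of a finitely presented module to affine schemes. -/

set_option autoImplicit false
set_option linter.style.haveILetI false

universe u

open CategoryTheory CategoryTheory.Limits AlgebraicGeometry TopologicalSpace TensorProduct

namespace Groth.Agent.H24Algz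

/-- Comparing presentations through a chart. -/
theorem hasPres_extendScalars_of_chart {A R S : CommRingCat.{u}} (α : A ⟶ S) (ψ : R ⟶ S) {X : Scheme.{u}}
    (F : X.Modules) (f : Spec A ⟶ X) (j : Spec R ⟶ X) (hcomm : Spec.map α ≫ f = Spec.map ψ ≫ j)
    (P : ModuleCat.{u} R) (eP : (Scheme.Modules.pullback j).obj F ≅ tilde P) (M : ModuleCat.{u} A)
    (eM : tilde M ≅ (Scheme.Modules.pullback f).obj F) {n p : ℕ} (hP : HasPres R P n p) :
    letI := α.hom.toAlgebra
    HasPres S ((S : Type u) ⊗[(A : Type u)] (M : Type u)) n p := by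
  letI := α.hom.toAlgebra
  letI := ψ.hom.toAlgebra
  let e : tilde ((ModuleCat.extendScalars α.hom).obj M) ≅ tilde ((ModuleCat.extendScalars ψ.hom).obj P) :=
    ((H17.OmegaAffine.pullbackTildeIso α).app M).symm ≪≫ (Scheme.Modules.pullback (Spec.map α)).mapIso eM ≪≫
      (Scheme.Modules.pullbackComp (Spec.map α) f).app F ≪≫ (Scheme.Modules.pullbackCongr hcomm).app F ≪≫
      ((Scheme.Modules.pullbackComp (Spec.map ψ) j).app F).symm ≪≫
      (Scheme.Modules.pullback (Spec.map ψ)).mapIso eP ≪≫ (H17.OmegaAffine.pullbackTildeIso ψ).app P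
  let l := ((tilde.fullyFaithfulFunctor).preimageIso e).toLinearEquiv
  have h : HasPres S ((S : Type u) ⊗[(R : Type u)] (P : Type u)) n p := hP.baseChange S
  have h' : HasPres S ((ModuleCat.extendScalars ψ.hom).obj P) n p := h
  exact h'.of_linearEquiv l.symm

/-- Global sections of the pullbacks of a finitely presented module have bounded presentations. -/
theorem exists_hasPres_sections_pullback (X : Scheme.{u}) [CompactSpace X] (F : X.Modules) (hF : CohB1.IsFP F) :
    ∃ n p : ℕ, ∀ (A : CommRingCat.{u}) (f : Spec A ⟶ X),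
      HasPres Γ(Spec A, ⊤) Γ((Scheme.Modules.pullback f).obj F, ⊤) n p := by
  classical
  have hq : Coh.IsQCoh F := H29Fitt.isQCoh_of_isFP F hF
  have key : ∀ x : X, ∃ V : X.Opens, ∃ hV : IsAffineOpen V, x ∈ V ∧ ∃ (P : ModuleCat.{u} Γ(X, V)) (n p : ℕ),
      HasPres Γ(X, V) P n p ∧ Nonempty ((Scheme.Modules.pullback hV.fromSpec).obj F ≅ tilde P) := by
    intro x
    obtain ⟨U, hU, hxU, -⟩ := exists_isAffineOpen_mem_and_subset (U := (⊤ : X.Opens)) (x := x) trivial
    obtain ⟨t, hxt, hfp⟩ := H29Fitt.exists_basicOpen_finitePresentation F hF hU ⟨x, hxU⟩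
    obtain ⟨P, hP, he⟩ := H06EGA9.exists_tilde_pullback_fromSpec hq (hU.basicOpen t) hfp
    haveI := hP
    obtain ⟨n, p, h⟩ := exists_hasPres (A := Γ(X, X.basicOpen t)) (M := P)
    exact ⟨_, hU.basicOpen t, hxt, P, n, p, h, he⟩
  choose V hV hxV P nV pV hPres he using key
  obtain ⟨s, hs⟩ := isCompact_univ.elim_finite_subcover (fun x => (V x : Set X)) (fun x => (V x).2)
    (fun x _ => Set.mem_iUnion.mpr ⟨x, hxV x⟩)
  obtain ⟨n, p, hnp⟩ := hasPres_of_cover.{u} (ι := s) (fun a => nV a.1) (fun a => pV a.1)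
  refine ⟨n, p, fun A f => ?_⟩
  haveI hG : ((Scheme.Modules.pullback f).obj F).IsQuasicoherent := H29Fitt.isQCoh_pullback f F hq
  let M : ModuleCat.{u} A := (moduleSpecΓFunctor (R := A)).obj ((Scheme.Modules.pullback f).obj F)
  let eM : tilde M ≅ (Scheme.Modules.pullback f).obj F := H10Coh.tildeIso _
  have hcov : ⨆ a : s, f ⁻¹ᵁ V a.1 = ⊤ := by
    rw [eq_top_iff]
    intro y _
    obtain ⟨x, hx, hyx⟩ := Set.mem_iUnion₂.mp (hs (Set.mem_univ (f y)))
    exact Opens.mem_iSup.mpr ⟨⟨x, hx⟩, hyx⟩
  obtain ⟨c, hc, hccov⟩ := exists_basicOpen_family_of_iSup_eq_top _ hcov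
  have hspan : Ideal.span (Set.range c) = ⊤ := by
    by_contra hne
    obtain ⟨Q, hQ, hle⟩ := Ideal.exists_le_maximal _ hne
    obtain ⟨a, ha⟩ := hccov ⟨Q, hQ.isPrime⟩
    exact ha (hle (Ideal.subset_span ⟨a, rfl⟩))
  have hM : HasPres A M n p := by
    refine hnp A M c hspan fun a => ?_
    let S := CommRingCat.of (Localization.Away (c a))
    let α : A ⟶ S := CommRingCat.ofHom (algebraMap A (Localization.Away (c a)))
    have hrange : Set.range (Spec.map α ≫ f) ⊆ Set.range (hV a.1).fromSpec := by
      rintro _ ⟨y, rfl⟩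
      rw [(hV a.1).range_fromSpec]
      have hy : Spec.map α y ∈ (PrimeSpectrum.basicOpen (c a) : Set (PrimeSpectrum A)) := by
        rw [← PrimeSpectrum.localization_away_comap_range (Localization.Away (c a)) (c a)]
        exact ⟨y, rfl⟩
      exact hc a hy
    let g : Spec S ⟶ Spec Γ(X, V a.1) := IsOpenImmersion.lift (hV a.1).fromSpec (Spec.map α ≫ f) hrange
    have hcomm : Spec.map α ≫ f = Spec.map (Spec.preimage g) ≫ (hV a.1).fromSpec := by
      rw [Spec.map_preimage]
      exact (IsOpenImmersion.lift_fac _ _ _).symm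
    have h : IsLocalization.Away (c a) (Localization.Away (c a)) := inferInstance
    letI : Algebra A S := α.hom.toAlgebra
    haveI : IsLocalization.Away (c a) S := by
      unfold IsLocalization.Away at h ⊢
      rw [isLocalization_iff_isLocalizationMap] at h ⊢
      exact h
    exact ⟨S, inferInstance, inferInstance, inferInstance,
      hasPres_extendScalars_of_chart α (Spec.preimage g) F f (hV a.1).fromSpec hcomm (P a.1) (he a.1).some M eM
        (hPres a.1)⟩
  refine hM.of_semilinear (Scheme.ΓSpecIso A).commRingCatIsoToRingEquiv.symm (AddEquiv.refl _) fun a m => ?_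
  have h := Scheme.Modules.smul_Spec_def (M := (Scheme.Modules.pullback f).obj F) (U := ⊤) a m
  have hid : (⊤ : (Spec A).Opens).leTop.op = 𝟙 _ := Subsingleton.elim _ _
  rw [hid, CategoryTheory.Functor.map_id] at h
  exact h

/-- Products of sections of pullbacks of a finitely presented module are of finite presentation. -/
theorem finitePresentation_pi_sections_pullback (X : Scheme.{u}) [CompactSpace X]
    {ι : Type u} (A : ι → CommRingCat.{u}) (f : ∀ i, Spec (A i) ⟶ X) (F : X.Modules) (hF : CohB1.IsFP F) :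
    Module.FinitePresentation (∀ i, Γ(Spec (A i), ⊤))
      (∀ i, Γ((Scheme.Modules.pullback (f i)).obj F, ⊤)) := by
  obtain ⟨n, p, h⟩ := exists_hasPres_sections_pullback X F hF
  exact finitePresentation_pi n p fun i => h (A i) (f i)

end Groth.Agent.H24Algz
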