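import Mathlib.RingTheory.Localization.BaseChange
import Mathlib.RingTheory.Localization.Away.Basic
import Mathlib.LinearAlgebra.TensorProduct.RightExactness
import Mathlib.LinearAlgebra.TensorProduct.Pi
import Mathlib.Algebra.Module.FinitePresentation
import Mathlib.RingTheory.LocalProperties.Submodule

/-! Presentations with a bounded number of generators and relations: base change, local-global, products. -/

set_option autoImplicit false
set_option linter.style.haveILetI false

universe u

open TensorProduct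

namespace Groth.Agent.H24Algz

/-- `M` has a presentation with `n` generators and `p` relations. -/
def HasPres (A : Type*) [CommRing A] (M : Type*) [AddCommGroup M] [Module A M] (n p : ℕ) : Prop :=
  ∃ (e : Fin n → M) (v : Fin p → (Fin n → A)), Submodule.span A (Set.range e) = ⊤ ∧
    Submodule.span A (Set.range v) = LinearMap.ker (Fintype.linearCombination A e)

section Basic

variable {A : Type*} [CommRing A] {M : Type*} [AddCommGroup M] [Module A M]

theorem exists_hasPres [Module.FinitePresentation A M] : ∃ n p, HasPres A M n p := by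
  obtain ⟨n, f, hf⟩ := Module.Finite.exists_fin' A M
  obtain ⟨p, v, hv⟩ := Submodule.fg_iff_exists_fin_generating_family.mp (Module.FinitePresentation.fg_ker f hf)
  let e : Fin n → M := fun j => f (Pi.single j 1)
  have he : Fintype.linearCombination A e = f := by
    apply LinearMap.pi_ext
    intro i x
    rw [Fintype.linearCombination_apply_single, ← map_smul, ← Pi.single_smul, smul_eq_mul, mul_one]
  refine ⟨n, p, e, v, ?_, he ▸ hv⟩
  rw [← Fintype.range_linearCombination, he]
  exact LinearMap.range_eq_top.mpr hf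

theorem HasPres.of_linearEquiv {N : Type*} [AddCommGroup N] [Module A N] {n p : ℕ} (h : HasPres A M n p)
    (g : M ≃ₗ[A] N) : HasPres A N n p := by
  obtain ⟨e, v, he, hv⟩ := h
  have hc : Fintype.linearCombination A (fun j => g (e j)) = g.toLinearMap ∘ₗ Fintype.linearCombination A e := by
    ext x
    simp
  refine ⟨fun j => g (e j), v, ?_, ?_⟩
  · rw [Set.range_comp' g e]
    show Submodule.span A (g.toLinearMap '' _) = ⊤
    rw [← Submodule.map_span, he, Submodule.map_top, LinearEquiv.range]
  · rw [hc, LinearEquiv.ker_comp, hv]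

theorem HasPres.of_semilinear {B : Type*} [CommRing B] {N : Type*} [AddCommGroup N] [Module B N] {n p : ℕ}
    (h : HasPres A M n p) (σ : A ≃+* B) (g : M ≃+ N) (hg : ∀ (a : A) (m : M), g (a • m) = σ a • g m) :
    HasPres B N n p := by
  obtain ⟨e, v, he, hv⟩ := h
  have hsum : ∀ x : Fin n → A, Fintype.linearCombination B (fun j => g (e j)) (fun j => σ (x j)) =
      g (Fintype.linearCombination A e x) := by
    intro x
    simp [Fintype.linearCombination_apply, map_sum, hg]
  have hsurj : ∀ y : Fin n → B, ∃ x : Fin n → A, y = fun j => σ (x j) := fun y =>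
    ⟨fun j => σ.symm (y j), by simp⟩
  refine ⟨fun j => g (e j), fun l j => σ (v l j), ?_, le_antisymm ?_ fun y hy => ?_⟩
  · rw [eq_top_iff, ← Fintype.range_linearCombination]
    rintro z -
    obtain ⟨m, rfl⟩ := g.surjective z
    obtain ⟨x, rfl⟩ : m ∈ LinearMap.range (Fintype.linearCombination A e) := by
      rw [Fintype.range_linearCombination, he]; trivial
    exact ⟨_, hsum x⟩
  · rw [Submodule.span_le]
    rintro _ ⟨l, rfl⟩
    rw [SetLike.mem_coe, LinearMap.mem_ker, hsum,
      LinearMap.mem_ker.mp (hv ▸ Submodule.subset_span ⟨l, rfl⟩ : v l ∈ LinearMap.ker _), map_zero]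
  · obtain ⟨x, rfl⟩ := hsurj y
    rw [LinearMap.mem_ker, hsum, AddEquivClass.map_eq_zero_iff] at hy
    obtain ⟨c, hc⟩ := (Submodule.mem_span_range_iff_exists_fun A).mp (hv.ge hy)
    refine (Submodule.mem_span_range_iff_exists_fun B).mpr ⟨fun l => σ (c l), ?_⟩
    subst hc
    funext j
    simp [Finset.sum_apply, map_sum]

/-- The kernel of a map onto a presented module from a module with finitely many generators has boundedly many
generators. -/
theorem exists_ker_generators {n₀ r₀ n : ℕ} (h : HasPres A M n₀ r₀) {F : Type*} [AddCommGroup F] [Module A F]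
    (φ : F →ₗ[A] M) (hφ : Function.Surjective φ) (e : Fin n → F) (he : Submodule.span A (Set.range e) = ⊤) :
    ∃ w : Fin (r₀ + n) → F, Submodule.span A (Set.range w) = LinearMap.ker φ := by
  obtain ⟨g, v, hg, hv⟩ := h
  let ψ := Fintype.linearCombination A g
  choose b hb using fun j => hφ (g j)
  let β := Fintype.linearCombination A b
  have hβ : ∀ x, φ (β x) = ψ x := fun x => by
    simp [β, ψ, Fintype.linearCombination_apply, map_sum, hb]
  have hψ : Function.Surjective ψ := by
    rw [← LinearMap.range_eq_top, Fintype.range_linearCombination, hg]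
  choose α hα using fun j => hψ (φ (e j))
  have hvk : ∀ l, ψ (v l) = 0 := fun l => LinearMap.mem_ker.mp (hv ▸ Submodule.subset_span ⟨l, rfl⟩)
  let w : Fin (r₀ + n) → F := Fin.append (fun l => β (v l)) (fun j => e j - β (α j))
  refine ⟨w, le_antisymm (Submodule.span_le.mpr ?_) fun x hx => ?_⟩
  · rintro _ ⟨i, rfl⟩
    refine Fin.addCases (fun l => ?_) (fun j => ?_) i
    · simp [w, hβ, hvk]
    · simp [w, hβ, hα]
  · obtain ⟨a, ha⟩ := (Submodule.mem_span_range_iff_exists_fun A).mp (he.ge (Submodule.mem_top (x := x)))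
    have h0 : ψ (∑ j, a j • α j) = 0 := by
      rw [map_sum]
      simp only [map_smul, hα]
      rw [← LinearMap.mem_ker.mp hx, ← ha, map_sum]
      simp
    have h1 : ∑ j, a j • α j ∈ Submodule.span A (Set.range v) := hv ▸ LinearMap.mem_ker.mpr h0
    have h2 : β (∑ j, a j • α j) ∈ Submodule.span A (Set.range w) := by
      have := Submodule.mem_map_of_mem (f := β) h1
      rw [Submodule.map_span] at this
      refine Submodule.span_mono ?_ this
      rintro _ ⟨_, ⟨l, rfl⟩, rfl⟩
      exact ⟨Fin.castAdd n l, by simp [w]⟩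
    have h3 : x = ∑ j, a j • (e j - β (α j)) + β (∑ j, a j • α j) := by
      simp [smul_sub, Finset.sum_sub_distrib, map_sum, ha]
    rw [h3]
    refine add_mem (sum_mem fun j _ => Submodule.smul_mem _ _ (Submodule.subset_span ?_)) h2
    exact ⟨Fin.natAdd r₀ j, by simp [w]⟩

theorem HasPres.baseChange {R : Type*} [CommRing R] {P : Type*} [AddCommGroup P] [Module R P] (S : Type*)
    [CommRing S] [Algebra R S] {n p : ℕ} (h : HasPres R P n p) : HasPres S (S ⊗[R] P) n p := by
  classical
  obtain ⟨e, v, he, hv⟩ := h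
  let ψ := Fintype.linearCombination R e
  let v' : Fin p → (Fin n → S) := fun l j => algebraMap R S (v l j)
  have hψ : Function.Surjective ψ := by
    rw [← LinearMap.range_eq_top, Fintype.range_linearCombination, he]
  have hex : Function.Exact (Fintype.linearCombination R v) ψ := by
    rw [LinearMap.exact_iff, Fintype.range_linearCombination, hv]
  have hspan : Submodule.span S (Set.range fun j => (1 : S) ⊗ₜ[R] e j) = ⊤ := by
    refine eq_top_iff.mpr fun x _ => ?_
    induction x using TensorProduct.induction_on with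
    | zero => exact zero_mem _
    | add x y hx hy => exact add_mem (hx trivial) (hy trivial)
    | tmul s m =>
      obtain ⟨c, rfl⟩ := (Submodule.mem_span_range_iff_exists_fun R).mp (he.ge (Submodule.mem_top (x := m)))
      rw [TensorProduct.tmul_sum]
      refine sum_mem fun j _ => ?_
      rw [← TensorProduct.smul_tmul, show (c j • s) ⊗ₜ[R] e j = (c j • s) • ((1 : S) ⊗ₜ[R] e j) from by
        rw [TensorProduct.smul_tmul', smul_eq_mul, mul_one]]
      exact Submodule.smul_mem _ _ (Submodule.subset_span ⟨j, rfl⟩)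
  refine ⟨fun j => (1 : S) ⊗ₜ[R] e j, v', hspan, le_antisymm ?_ fun x hx => ?_⟩
  · rw [Submodule.span_le]
    rintro _ ⟨l, rfl⟩
    have h0 : ψ (v l) = 0 := LinearMap.mem_ker.mp (hv ▸ Submodule.subset_span ⟨l, rfl⟩)
    rw [SetLike.mem_coe, LinearMap.mem_ker, Fintype.linearCombination_apply]
    have h1 : (1 : S) ⊗ₜ[R] ψ (v l) = 0 := by rw [h0, TensorProduct.tmul_zero]
    rw [← h1, Fintype.linearCombination_apply, TensorProduct.tmul_sum]
    refine Finset.sum_congr rfl fun j _ => ?_
    rw [TensorProduct.tmul_smul, algebraMap_smul]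
  · let π : S ⊗[R] (Fin n → R) ≃ₗ[S] (Fin n → S) := TensorProduct.piScalarRight R S S (Fin n)
    have hπ : ∀ (s : S) (z : Fin n → R) (j : Fin n), π (s ⊗ₜ z) j = z j • s := fun s z j => by
      simp [π, TensorProduct.piScalarRight_apply, TensorProduct.piScalarRightHom_tmul]
    let X : S ⊗[R] (Fin n → R) := ∑ j, x j ⊗ₜ Pi.single j 1
    have hπX : π X = x := by
      funext i
      rw [map_sum, Finset.sum_apply, Finset.sum_eq_single i]
      · rw [hπ, Pi.single_eq_same, one_smul]
      · intro j _ hj
        rw [hπ, Pi.single_eq_of_ne hj.symm, zero_smul]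
      · simp
    have hX0 : LinearMap.lTensor S ψ X = 0 := by
      rw [← LinearMap.mem_ker.mp hx, Fintype.linearCombination_apply, map_sum]
      refine Finset.sum_congr rfl fun j _ => ?_
      rw [LinearMap.lTensor_tmul, TensorProduct.smul_tmul', smul_eq_mul, mul_one]
      simp [ψ]
    obtain ⟨Y, hY⟩ := ((lTensor_exact S hex hψ) X).mp hX0
    rw [← hπX, ← hY]
    clear hY
    induction Y using TensorProduct.induction_on with
    | zero => simp
    | add a b ha hb => rw [map_add, map_add]; exact add_mem ha hb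
    | tmul s z =>
      rw [LinearMap.lTensor_tmul, Fintype.linearCombination_apply, TensorProduct.tmul_sum, map_sum]
      refine sum_mem fun l _ => ?_
      have : π (s ⊗ₜ (z l • v l)) = (z l • s) • v' l := by
        funext j
        rw [hπ]
        simp [v', Algebra.smul_def]
        ring
      rw [this]
      exact Submodule.smul_mem _ _ (Submodule.subset_span ⟨l, rfl⟩)

end Basic

section Local

variable {A : Type*} [CommRing A] (c : A) {S : Type*} [CommRing S] [Algebra A S] [IsLocalization.Away c S]
  {N₁ : Type*} [AddCommGroup N₁] [Module A N₁] {N₂ : Type*} [AddCommGroup N₂] [Module A N₂] [Module S N₂]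
  [IsScalarTower A S N₂] (ℓ : N₁ →ₗ[A] N₂) [IsLocalizedModule (Submonoid.powers c) ℓ]

theorem exists_pow_smul_mem_span (t : Set N₁) (x : N₁) (hx : ℓ x ∈ Submodule.span S (ℓ '' t)) :
    ∃ N : ℕ, c ^ N • x ∈ Submodule.span A t := by
  have key : ∀ y ∈ Submodule.span S (ℓ '' t),
      ∃ (N : Submonoid.powers c) (z : N₁), z ∈ Submodule.span A t ∧ (N : A) • y = ℓ z := by
    intro y hy
    induction hy using Submodule.span_induction with
    | mem y hy =>
      obtain ⟨z, hz, rfl⟩ := hy
      exact ⟨1, z, Submodule.subset_span hz, one_smul _ _⟩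
    | zero => exact ⟨1, 0, zero_mem _, by simp⟩
    | add y y' _ _ ih ih' =>
      obtain ⟨N, z, hz, e⟩ := ih
      obtain ⟨N', z', hz', e'⟩ := ih'
      refine ⟨N * N', (N' : A) • z + (N : A) • z', add_mem (Submodule.smul_mem _ _ hz) (Submodule.smul_mem _ _ hz'), ?_⟩
      rw [map_add, map_smul, map_smul, ← e, ← e', smul_add]
      simp only [Submonoid.coe_mul, smul_smul, mul_comm]
    | smul a y _ ih =>
      obtain ⟨N, z, hz, e⟩ := ih
      obtain ⟨⟨r, d⟩, hr⟩ := IsLocalization.surj (Submonoid.powers c) a
      refine ⟨d * N, r • z, Submodule.smul_mem _ _ hz, ?_⟩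
      rw [map_smul, ← e, Submonoid.coe_mul, mul_smul,
        ← smul_comm a (N : A) y, smul_comm (d : A) a, ← algebraMap_smul S (d : A) ((N : A) • y),
        smul_smul, hr, algebraMap_smul]
  obtain ⟨N, z, hz, e⟩ := key _ hx
  rw [← map_smul] at e
  obtain ⟨d, hd⟩ := (IsLocalizedModule.eq_iff_exists (Submonoid.powers c) ℓ).mp e
  obtain ⟨k, hk⟩ := (d * N).2
  refine ⟨k, ?_⟩
  rw [show c ^ k = ((d : A) * (N : A)) from hk, mul_smul, ← Submonoid.smul_def, hd, Submonoid.smul_def]
  exact Submodule.smul_mem _ _ hz

include c in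
theorem exists_unit_smul_eq {q : ℕ} (s : Fin q → N₂) :
    ∃ (t : Fin q → N₁) (a : Fin q → S), (∀ j, IsUnit (a j)) ∧ ∀ j, ℓ (t j) = a j • s j := by
  choose p hp using fun j => IsLocalizedModule.surj (Submonoid.powers c) ℓ (s j)
  refine ⟨fun j => (p j).1, fun j => algebraMap A S ((p j).2 : A),
    fun j => IsLocalization.map_units _ (p j).2, fun j => ?_⟩
  rw [← hp j, Submonoid.smul_def, algebraMap_smul]

omit [IsLocalizedModule (Submonoid.powers c) ℓ] [IsLocalization.Away c S] [Algebra A S] [IsScalarTower A S N₂] in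
theorem span_image_eq_of_unit_smul {q : ℕ} (s : Fin q → N₂) (t : Fin q → N₁) (a : Fin q → S)
    (ha : ∀ j, IsUnit (a j)) (h : ∀ j, ℓ (t j) = a j • s j) :
    Submodule.span S (ℓ '' Set.range t) = Submodule.span S (Set.range s) := by
  refine le_antisymm (Submodule.span_le.mpr ?_) (Submodule.span_le.mpr ?_)
  · rintro _ ⟨_, ⟨j, rfl⟩, rfl⟩
    rw [h]
    exact Submodule.smul_mem _ _ (Submodule.subset_span ⟨j, rfl⟩)
  · rintro _ ⟨j, rfl⟩
    rw [SetLike.mem_coe, ← Submodule.smul_mem_iff_of_isUnit _ (ha j), ← h]
    exact Submodule.subset_span ⟨_, ⟨j, rfl⟩, rfl⟩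

end Local

section LocalData

variable {A : Type*} [CommRing A] (c : A) (S : Type*) [CommRing S] [Algebra A S] [IsLocalization.Away c S]
  {M : Type*} [AddCommGroup M] [Module A M]

theorem exists_generators_local {n₀ r₀ : ℕ} (h : HasPres S (S ⊗[A] M) n₀ r₀) :
    ∃ t : Fin n₀ → M, ∀ x : M, ∃ N : ℕ, c ^ N • x ∈ Submodule.span A (Set.range t) := by
  obtain ⟨g, -, hg, -⟩ := h
  let ℓ := TensorProduct.mk A S M 1
  obtain ⟨t, a, ha, ht⟩ := exists_unit_smul_eq c (S := S) ℓ g
  refine ⟨t, fun x => exists_pow_smul_mem_span c (S := S) ℓ _ x ?_⟩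
  rw [span_image_eq_of_unit_smul ℓ g t a ha ht, hg]
  trivial

theorem exists_relations_local {n₀ r₀ n : ℕ} (h : HasPres S (S ⊗[A] M) n₀ r₀) (e : Fin n → M)
    (he : Submodule.span A (Set.range e) = ⊤) :
    ∃ u : Fin (r₀ + n) → (Fin n → A), (∀ l, Fintype.linearCombination A e (u l) = 0) ∧
      ∀ x : Fin n → A, Fintype.linearCombination A e x = 0 →
        ∃ N : ℕ, c ^ N • x ∈ Submodule.span A (Set.range u) := by
  classical
  let φ := Fintype.linearCombination A e
  have hφ : Function.Surjective φ := by rw [← LinearMap.range_eq_top, Fintype.range_linearCombination, he]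
  let φ' := φ.baseChange S
  have hφ' : Function.Surjective φ' := LinearMap.lTensor_surjective S hφ
  let ℓF := TensorProduct.mk A S (Fin n → A) 1
  let ℓM := TensorProduct.mk A S M 1
  have hspan : Submodule.span S (Set.range fun j => (1 : S) ⊗ₜ[A] (Pi.single j 1 : Fin n → A)) = ⊤ := by
    refine eq_top_iff.mpr fun x _ => ?_
    induction x using TensorProduct.induction_on with
    | zero => exact zero_mem _
    | add x y hx hy => exact add_mem (hx trivial) (hy trivial)
    | tmul s m =>
      rw [← Finset.univ_sum_single m, TensorProduct.tmul_sum]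
      refine sum_mem fun j _ => ?_
      have : s ⊗ₜ[A] (Pi.single j (m j) : Fin n → A) = (m j • s) • ((1 : S) ⊗ₜ[A] (Pi.single j 1 : Fin n → A)) := by
        rw [TensorProduct.smul_tmul', smul_eq_mul, mul_one, TensorProduct.smul_tmul, ← Pi.single_smul, smul_eq_mul,
          mul_one]
      rw [this]
      exact Submodule.smul_mem _ _ (Submodule.subset_span ⟨j, rfl⟩)
  obtain ⟨w, hw⟩ := exists_ker_generators h φ' hφ' _ hspan
  obtain ⟨u₀, a, ha, hu₀⟩ := exists_unit_smul_eq c (S := S) ℓF w
  have hcomp : ∀ x, φ' (ℓF x) = ℓM (φ x) := fun x => LinearMap.baseChange_tmul _ _ _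
  have h0 : ∀ l, ∃ d : Submonoid.powers c, d • φ (u₀ l) = d • (0 : M) := by
    intro l
    apply (IsLocalizedModule.eq_iff_exists (Submonoid.powers c) ℓM).mp
    rw [← hcomp, hu₀, map_smul, LinearMap.mem_ker.mp (hw ▸ Submodule.subset_span ⟨l, rfl⟩ : w l ∈ LinearMap.ker φ'),
      smul_zero, map_zero]
  choose d hd using h0
  let u : Fin (r₀ + n) → (Fin n → A) := fun l => (d l : A) • u₀ l
  have hu : ∀ l, ℓF (u l) = (algebraMap A S (d l : A) * a l) • w l := by
    intro l
    rw [map_smul, hu₀, mul_smul, algebraMap_smul]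
  refine ⟨u, fun l => ?_, fun x hx => exists_pow_smul_mem_span c (S := S) ℓF _ x ?_⟩
  · have := hd l
    rw [smul_zero, Submonoid.smul_def] at this
    show φ ((d l : A) • u₀ l) = 0
    rw [map_smul, this]
  · rw [span_image_eq_of_unit_smul ℓF w u _ (fun l => (IsLocalization.map_units S (d l)).mul (ha l)) hu, hw,
      LinearMap.mem_ker, hcomp, show φ x = 0 from hx, map_zero]

end LocalData

section Global

/-- Local presentations give a global presentation with bounded numbers of generators and relations. -/
theorem hasPres_of_cover {ι : Type*} [Fintype ι] (n₀ r₀ : ι → ℕ) :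
    ∃ n p : ℕ, ∀ (A : Type u) [CommRing A] (M : Type u) [AddCommGroup M] [Module A M] (c : ι → A),
      Ideal.span (Set.range c) = ⊤ →
      (∀ a, ∃ (S : Type u) (_ : CommRing S) (_ : Algebra A S) (_ : IsLocalization.Away (c a) S),
        HasPres S (S ⊗[A] M) (n₀ a) (r₀ a)) → HasPres A M n p := by
  classical
  let G := Σ a, Fin (n₀ a)
  let n := Fintype.card G
  let Q := Σ a, Fin (r₀ a + n)
  refine ⟨n, Fintype.card Q, fun A _ M _ _ c hc hloc => ?_⟩
  choose S _ _ hS h using hloc
  haveI := hS
  choose t ht using fun a => exists_generators_local (c a) (S a) (h a)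
  let e : Fin n → M := fun k => t ((Fintype.equivFin G).symm k).1 ((Fintype.equivFin G).symm k).2
  have hlg : ∀ {N : Type u} [AddCommGroup N] [Module A N] (U : Submodule A N) (x : N),
      (∀ a, ∃ k : ℕ, c a ^ k • x ∈ U) → x ∈ U := by
    intro N _ _ U x hx
    refine Submodule.mem_of_span_eq_top_of_smul_pow_mem _ (Set.range c) hc x ?_
    rintro ⟨_, a, rfl⟩
    exact hx a
  have hmem : ∀ a j, t a j ∈ Set.range e := fun a j => by
    refine ⟨Fintype.equivFin G ⟨a, j⟩, ?_⟩
    have key : ∀ q : G, q = ⟨a, j⟩ → t q.1 q.2 = t a j := by rintro _ rfl; rfl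
    exact key _ (Equiv.symm_apply_apply _ _)
  have he : Submodule.span A (Set.range e) = ⊤ := eq_top_iff.mpr fun x _ => hlg _ x fun a => by
    obtain ⟨k, hk⟩ := ht a x
    exact ⟨k, Submodule.span_mono (by rintro _ ⟨j, rfl⟩; exact hmem a j) hk⟩
  choose u hu0 hu using fun a => exists_relations_local (c a) (S a) (h a) e he
  let v : Fin (Fintype.card Q) → (Fin n → A) :=
    fun k => u ((Fintype.equivFin Q).symm k).1 ((Fintype.equivFin Q).symm k).2
  have hvmem : ∀ a l, u a l ∈ Set.range v := fun a l => by
    refine ⟨Fintype.equivFin Q ⟨a, l⟩, ?_⟩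
    have key : ∀ q : Q, q = ⟨a, l⟩ → u q.1 q.2 = u a l := by rintro _ rfl; rfl
    exact key _ (Equiv.symm_apply_apply _ _)
  refine ⟨e, v, he, le_antisymm (Submodule.span_le.mpr ?_) fun x hx => hlg _ x fun a => ?_⟩
  · rintro _ ⟨k, rfl⟩
    exact LinearMap.mem_ker.mpr (hu0 _ _)
  · obtain ⟨k, hk⟩ := hu a x (LinearMap.mem_ker.mp hx)
    exact ⟨k, Submodule.span_mono (by rintro _ ⟨l, rfl⟩; exact hvmem a l) hk⟩

/-- A product of uniformly presented modules is of finite presentation over the product of the rings. -/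
theorem finitePresentation_pi {ι : Type*} {A : ι → Type*} [∀ i, CommRing (A i)] {M : ι → Type*}
    [∀ i, AddCommGroup (M i)] [∀ i, Module (A i) (M i)] (n p : ℕ) (h : ∀ i, HasPres (A i) (M i) n p) :
    Module.FinitePresentation (∀ i, A i) (∀ i, M i) := by
  classical
  choose e v he hv using h
  let E : Fin n → (∀ i, M i) := fun j i => e i j
  let V : Fin p → (Fin n → ∀ i, A i) := fun l j i => v i l j
  let φ := Fintype.linearCombination (∀ i, A i) E
  have happ : ∀ (x : Fin n → ∀ i, A i) (i : ι), φ x i = Fintype.linearCombination (A i) (e i) (fun j => x j i) := by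
    intro x i
    simp [φ, E, Fintype.linearCombination_apply, Finset.sum_apply]
  have hsurj : Function.Surjective φ := by
    intro m
    choose x hx using fun i => show m i ∈ LinearMap.range (Fintype.linearCombination (A i) (e i)) by
      rw [Fintype.range_linearCombination, he i]; trivial
    exact ⟨fun j i => x i j, funext fun i => (happ _ i).trans (hx i)⟩
  have hker : LinearMap.ker φ = Submodule.span (∀ i, A i) (Set.range V) := by
    refine le_antisymm (fun x hx => ?_) (Submodule.span_le.mpr ?_)
    · have hx' : ∀ i, (fun j => x j i) ∈ Submodule.span (A i) (Set.range (v i)) := fun i => by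
        rw [hv i, LinearMap.mem_ker, ← happ, LinearMap.mem_ker.mp hx]; rfl
      choose a ha using fun i => (Submodule.mem_span_range_iff_exists_fun (A i)).mp (hx' i)
      refine (Submodule.mem_span_range_iff_exists_fun _).mpr ⟨fun l i => a i l, ?_⟩
      funext j i
      have := congrFun (ha i) j
      simpa [V, Finset.sum_apply] using this
    · rintro _ ⟨l, rfl⟩
      refine LinearMap.mem_ker.mpr (funext fun i => ?_)
      rw [happ]
      exact LinearMap.mem_ker.mp (hv i ▸ Submodule.subset_span ⟨l, rfl⟩ : v i l ∈ LinearMap.ker _)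
  haveI := Module.finitePresentation_of_projective (∀ i, A i) (Fin n → ∀ i, A i)
  refine Module.finitePresentation_of_surjective φ hsurj ?_
  rw [hker]
  exact Submodule.fg_span (Set.finite_range V)

end Global

end Groth.Agent.H24Algz
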