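import Groth.Agent.H24Algz.Etale
import Groth.Agent.H24Adic.Basic
import Mathlib.RingTheory.AdicCompletion.RingHom
import Mathlib.RingTheory.AdicCompletion.LocalRing

/-!
# Presenting a complete local algebra by the completion of a polynomial ring
-/

set_option autoImplicit false
set_option linter.style.haveILetI false

universe u

open IsLocalRing

namespace Groth.Agent.H24Algz

section completion

variable {P : Type u} [CommRing P] [IsNoetherianRing P] (m : Ideal P)

theorem mem_map_pow_iff (n : ℕ) (z : AdicCompletion m P) :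
    z ∈ m.map (algebraMap P (AdicCompletion m P)) ^ n ↔ AdicCompletion.evalₐ m n z = 0 := by
  have h := congrArg (fun 𝓕 : FiltBl.IdealFiltration (AdicCompletion m P) => 𝓕.F n)
    (AssocGr.kerFilt_eq_adic_of_fg m (IsNoetherian.noetherian m))
  change RingHom.ker (AdicCompletion.evalₐ m n) = m.map (algebraMap P (AdicCompletion m P)) ^ n at h
  rw [← h]
  exact RingHom.mem_ker

theorem evalₐ_algebraMap (n : ℕ) (p : P) :
    AdicCompletion.evalₐ m n (algebraMap P _ p) = Ideal.Quotient.mk (m ^ n) p :=
  (AdicCompletion.evalₐ m n).commutes p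

theorem algebraMap_mem_map_pow_iff (n : ℕ) (p : P) :
    algebraMap P (AdicCompletion m P) p ∈ m.map (algebraMap P (AdicCompletion m P)) ^ n ↔ p ∈ m ^ n := by
  rw [mem_map_pow_iff, evalₐ_algebraMap, Ideal.Quotient.eq_zero_iff_mem]

theorem exists_approx_completion (n : ℕ) (z : AdicCompletion m P) :
    ∃ p, z - algebraMap P _ p ∈ m.map (algebraMap P (AdicCompletion m P)) ^ n := by
  obtain ⟨p, hp⟩ := Ideal.Quotient.mk_surjective (AdicCompletion.evalₐ m n z)
  refine ⟨p, ?_⟩
  rw [mem_map_pow_iff, map_sub, evalₐ_algebraMap, hp, sub_self]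

theorem isAdicComplete_map :
    IsAdicComplete (m.map (algebraMap P (AdicCompletion m P))) (AdicCompletion m P) :=
  AdicCompletion.isAdicComplete_self m (IsNoetherian.noetherian m)

end completion

/-- The maximal ideal of the origin. -/
noncomputable def origin (k : Type u) [Field k] (d : ℕ) : Ideal (MvPolynomial (Fin d) k) :=
  RingHom.ker (MvPolynomial.constantCoeff (σ := Fin d) (R := k))

instance origin_isMaximal (k : Type u) [Field k] (d : ℕ) : (origin k d).IsMaximal :=
  RingHom.ker_isMaximal_of_surjective _ fun c => ⟨MvPolynomial.C c, MvPolynomial.constantCoeff_C _ c⟩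

variable {k : Type u} [Field k] {R : Type u} [CommRing R] [Algebra k R] [IsLocalRing R] [IsNoetherianRing R]

omit [IsNoetherianRing R] in
theorem residue_surjective_approx (hres : Function.Surjective (fun c : k => residue R (algebraMap k R c))) (b : R) :
    ∃ c : k, b - algebraMap k R c ∈ maximalIdeal R := by
  obtain ⟨c, hc⟩ := hres (residue R b)
  exact ⟨c, (Ideal.Quotient.eq).1 hc.symm⟩

/-- A map from a polynomial ring whose image generates the maximal ideal. -/
theorem exists_polyHom (hres : Function.Surjective (fun c : k => residue R (algebraMap k R c))) :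
    ∃ (d : ℕ) (α : MvPolynomial (Fin d) k →ₐ[k] R),
      (origin k d).map α.toRingHom ≤ maximalIdeal R ∧
      maximalIdeal R ≤ (origin k d).map α.toRingHom ⊔ maximalIdeal R ^ 2 ∧
      ∀ b, ∃ p, b - α p ∈ maximalIdeal R := by
  obtain ⟨d, v, hv⟩ := Submodule.fg_iff_exists_fin_generating_family.1 (IsNoetherian.noetherian (maximalIdeal R))
  have hvm : ∀ i, v i ∈ maximalIdeal R := fun i => hv ▸ Submodule.subset_span ⟨i, rfl⟩
  let α : MvPolynomial (Fin d) k →ₐ[k] R := MvPolynomial.aeval v
  have hα : (residue R).comp α.toRingHom = ((residue R).comp (algebraMap k R)).comp MvPolynomial.constantCoeff := by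
    refine MvPolynomial.ringHom_ext (fun c => ?_) fun i => ?_
    · show residue R (MvPolynomial.aeval v (MvPolynomial.C c)) = residue R (algebraMap k R _)
      rw [MvPolynomial.aeval_C, MvPolynomial.constantCoeff_C]
    · show residue R (MvPolynomial.aeval v (MvPolynomial.X i)) = residue R (algebraMap k R _)
      rw [MvPolynomial.aeval_X, MvPolynomial.constantCoeff_X, map_zero, map_zero,
        residue_eq_zero_iff]
      exact hvm i
  refine ⟨d, α, Ideal.map_le_iff_le_comap.2 fun p hp => ?_, le_trans ?_ le_sup_left, fun b => ?_⟩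
  · rw [Ideal.mem_comap, ← residue_eq_zero_iff]
    have := RingHom.congr_fun hα p
    rw [RingHom.comp_apply, RingHom.comp_apply, RingHom.mem_ker.1 hp, map_zero] at this
    exact this
  · rw [← hv]
    refine Submodule.span_le.2 ?_
    rintro _ ⟨i, rfl⟩
    rw [show v i = α.toRingHom (MvPolynomial.X i) from (MvPolynomial.aeval_X v i).symm]
    exact Ideal.mem_map_of_mem _ (RingHom.mem_ker.2 (MvPolynomial.constantCoeff_X (R := k) (i := i)))
  · obtain ⟨c, hc⟩ := residue_surjective_approx hres b
    exact ⟨MvPolynomial.C c, by rwa [show α (MvPolynomial.C c) = algebraMap k R c from MvPolynomial.aeval_C v c]⟩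

variable [IsAdicComplete (maximalIdeal R) R] {d : ℕ}

/-- The presentation by the completed polynomial ring. -/
theorem exists_presentation_completion (α : MvPolynomial (Fin d) k →ₐ[k] R)
    (hle : (origin k d).map α.toRingHom ≤ maximalIdeal R)
    (hgen : maximalIdeal R ≤ (origin k d).map α.toRingHom ⊔ maximalIdeal R ^ 2)
    (hap : ∀ b, ∃ p, b - α p ∈ maximalIdeal R) :
    ∃ π : AdicCompletion (origin k d) (MvPolynomial (Fin d) k) →ₐ[k] R,
      (∀ p, π (algebraMap _ _ p) = α p) ∧ Function.Surjective π ∧
      ∀ (n : ℕ), ∀ z ∈ (origin k d).map (algebraMap (MvPolynomial (Fin d) k)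
          (AdicCompletion (origin k d) (MvPolynomial (Fin d) k))) ^ n, π z ∈ maximalIdeal R ^ n := by
  let P := MvPolynomial (Fin d) k
  let m := origin k d
  let B := AdicCompletion m P
  have hpow : ∀ n, m ^ n ≤ (maximalIdeal R ^ n).comap α.toRingHom := fun n => by
    rw [← Ideal.map_le_iff_le_comap, Ideal.map_pow]
    exact Ideal.pow_right_mono hle n
  let f : ∀ n, B →ₐ[k] R ⧸ maximalIdeal R ^ n := fun n =>
    (Ideal.quotientMapₐ (maximalIdeal R ^ n) α (hpow n)).comp ((AdicCompletion.evalₐ m n).restrictScalars k)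
  have hf : ∀ {i j : ℕ} (hle' : i ≤ j),
      (Ideal.Quotient.factorₐ k (Ideal.pow_le_pow_right hle')).comp (f j) = f i := fun {i j} hle' => by
    refine AlgHom.ext fun z => ?_
    obtain ⟨p, hp⟩ := exists_approx_completion m j z
    have hj : AdicCompletion.evalₐ m j z = Ideal.Quotient.mk (m ^ j) p := by
      rw [← sub_eq_zero, ← evalₐ_algebraMap, ← map_sub, ← mem_map_pow_iff]
      exact hp
    have hi : AdicCompletion.evalₐ m i z = Ideal.Quotient.mk (m ^ i) p := by
      rw [← sub_eq_zero, ← evalₐ_algebraMap, ← map_sub, ← mem_map_pow_iff]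
      exact Ideal.pow_le_pow_right hle' hp
    show Ideal.Quotient.factor (Ideal.pow_le_pow_right hle') (Ideal.quotientMapₐ _ α (hpow j) (AdicCompletion.evalₐ m j z)) =
      Ideal.quotientMapₐ _ α (hpow i) (AdicCompletion.evalₐ m i z)
    rw [hi, hj]
    rfl
  let π : B →ₐ[k] R := IsAdicComplete.liftAlgHom (maximalIdeal R) f hf
  have hπ : ∀ n z, Ideal.Quotient.mk (maximalIdeal R ^ n) (π z) = f n z := fun n z =>
    IsAdicComplete.mk_liftAlgHom (maximalIdeal R) f hf n z
  have hπα : ∀ p, π (algebraMap P B p) = α p := fun p => by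
    refine sub_eq_zero.1 (IsHausdorff.haus (I := maximalIdeal R) inferInstance _ fun n => ?_)
    rw [SModEq.sub_mem, sub_zero, smul_eq_mul, Ideal.mul_top, ← Ideal.Quotient.eq_zero_iff_mem, map_sub, hπ,
      sub_eq_zero]
    show Ideal.quotientMapₐ _ α (hpow n) (AdicCompletion.evalₐ m n (algebraMap P B p)) = _
    rw [evalₐ_algebraMap]
    rfl
  have hπpow : ∀ (n : ℕ), ∀ z ∈ m.map (algebraMap P B) ^ n, π z ∈ maximalIdeal R ^ n := fun n z hz => by
    rw [← Ideal.Quotient.eq_zero_iff_mem, hπ]
    show Ideal.quotientMapₐ _ α (hpow n) (AdicCompletion.evalₐ m n z) = 0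
    rw [(mem_map_pow_iff m n z).1 hz, map_zero]
  refine ⟨π, hπα, fun b => ?_, hπpow⟩
  classical
  choose q hq using fun n => exists_approx α.toRingHom m (maximalIdeal R) hle hgen hap n b
  have hstep : ∀ n, ∃ z ∈ m ^ n, b - α (q n + z) ∈ maximalIdeal R ^ (n + 1) := fun n => by
    obtain ⟨z, hz, hzb⟩ := exists_approx_pow α.toRingHom m (maximalIdeal R) hle hgen hap n (hq n)
    exact ⟨z, hz, by rw [map_add, ← sub_sub, ← neg_sub]; exact neg_mem hzb⟩
  let s : ℕ → P := fun n => Nat.rec (motive := fun _ => P) 0 (fun i r =>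
    if h : b - α r ∈ maximalIdeal R ^ i then
      r + (exists_approx_pow α.toRingHom m (maximalIdeal R) hle hgen hap i h).choose else r) n
  have hs : ∀ n, b - α (s n) ∈ maximalIdeal R ^ n := by
    intro n
    induction n with
    | zero => rw [pow_zero, Ideal.one_eq_top]; trivial
    | succ n ih =>
      have e : s (n + 1) = s n + (exists_approx_pow α.toRingHom m (maximalIdeal R) hle hgen hap n ih).choose :=
        dif_pos ih
      rw [e, map_add, ← sub_sub, ← neg_sub]
      exact neg_mem (exists_approx_pow α.toRingHom m (maximalIdeal R) hle hgen hap n ih).choose_spec.2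
  have hd : ∀ n, s (n + 1) - s n ∈ m ^ n := fun n => by
    have e : s (n + 1) = s n + (exists_approx_pow α.toRingHom m (maximalIdeal R) hle hgen hap n (hs n)).choose :=
      dif_pos (hs n)
    rw [e, add_sub_cancel_left]
    exact (exists_approx_pow α.toRingHom m (maximalIdeal R) hle hgen hap n (hs n)).choose_spec.1
  let a : ℕ → B := fun n => algebraMap P B (s (n + 1) - s n)
  have ha : ∀ n, a n ∈ m.map (algebraMap P B) ^ (n - 0) := fun n => by
    rw [Nat.sub_zero]
    exact (algebraMap_mem_map_pow_iff m n _).2 (hd n)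
  haveI := isAdicComplete_map m
  obtain ⟨L, hL⟩ := H24AdicGr.exists_limit (m.map (algebraMap P B)) 0 a ha
  have hsum : ∀ n, ∑ l ∈ Finset.range n, a l = algebraMap P B (s n) := fun n => by
    induction n with
    | zero => rw [Finset.sum_range_zero]; exact (map_zero _).symm
    | succ n ih => rw [Finset.sum_range_succ, ih]; simp only [a]; rw [← map_add, add_sub_cancel]
  refine ⟨L, sub_eq_zero.1 (IsHausdorff.haus (I := maximalIdeal R) inferInstance _ fun n => ?_)⟩
  rw [SModEq.sub_mem, sub_zero, smul_eq_mul, Ideal.mul_top]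
  have h1 := hπpow n _ (hL n)
  rw [hsum, map_sub, hπα] at h1
  rw [show π L - b = (π L - α (s n)) - (b - α (s n)) by ring]
  exact sub_mem h1 (hs n)

end Groth.Agent.H24Algz
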